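import Cfsg.Agent.Lib.SymHeight81.Wreath
import Cfsg.Agent.Lib.Clifford.Basic
import Cfsg.Agent.Lib.Characters.Linear
import Cfsg.Agent.Lib.Blocks.Contrib
import Mathlib.GroupTheory.IndexNormal
import Mathlib.GroupTheory.SpecificGroups.Alternating

/-!
# A character of degree `p` of the defect groups
-/

set_option linter.unusedSectionVars false

namespace Cfsg.Agent.Lib.SymHeight81

open Equiv Finset Cfsg.Agent.Lib.SymChar81
open scoped ComplexConjugate

theorem sign_addLeft_two : Perm.sign (Equiv.addLeft (1 : ZMod 2)) = -1 := by decide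

variable {p w m n : ℕ} [Fact p.Prime]

/-- A linear character of a normal subgroup of index `p` which is not invariant gives degree `p`. -/
theorem exists_degree_p {K : Type} [Group K] [Finite K] (hK : IsPGroup p K) {N0 : Subgroup K}
    [N0.Normal] (hidx : N0.index = p) (lam : N0 →* ℂˣ) (t : K) (a : N0)
    (hne : lam ⟨t * a * t⁻¹, Subgroup.Normal.conj_mem ‹N0.Normal› _ a.2 t⟩ ≠ lam a) :
    ∃ φ : Cfsg.IrrCharacter K, Cfsg.charDegree (φ : K → ℂ) = p := by
  classical
  letI := Fintype.ofFinite K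
  letI := Fintype.ofFinite N0
  letI := Fintype.ofFinite (Cfsg.IrrCharacter K)
  have hp : p.Prime := Fact.out
  set θ : Cfsg.IrrCharacter N0 := Characters.Linear.linChar lam with hθ
  have hind := Induced.Character.isCharacter_indFun N0 (Characters.Basic.isCharacter_irr θ)
  choose mu hmu using fun χ : Cfsg.IrrCharacter K =>
    Characters.Basic.exists_classInner_nat hind (Characters.Basic.isCharacter_irr χ)
  choose d hd using fun χ : Cfsg.IrrCharacter K =>
    Characters.Basic.exists_degree (Characters.Basic.isCharacter_irr χ)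
  have hsum : p = ∑ χ : Cfsg.IrrCharacter K, mu χ * d χ := by
    have h1 := congrFun (Characters.Basic.character_eq_finsum hind) 1
    rw [finsum_eq_sum_of_fintype, Finset.sum_apply, Induced.Basic.indFun_one, hidx,
      show (θ : N0 → ℂ) 1 = 1 by simp [θ, Characters.Linear.linChar_apply], mul_one] at h1
    simp only [Pi.smul_apply, smul_eq_mul, hmu, hd] at h1
    exact_mod_cast h1
  obtain ⟨χ, hχ⟩ : ∃ χ, mu χ ≠ 0 := by
    by_contra hcon
    push Not at hcon
    simp only [hcon, zero_mul, sum_const_zero] at hsum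
    exact hp.ne_zero hsum
  refine ⟨χ, ?_⟩
  have hdeg : Cfsg.charDegree (χ : K → ℂ) = d χ := by
    rw [Cfsg.charDegree, hd, Complex.natCast_re, Nat.floor_natCast]
  have hle : d χ ≤ p := by
    rw [hsum]
    exact (Nat.le_mul_of_pos_left _ (Nat.pos_of_ne_zero hχ)).trans
      (single_le_sum (f := fun χ => mu χ * d χ) (fun _ _ => Nat.zero_le _) (mem_univ χ))
  obtain ⟨k, hk⟩ := IsPGroup.iff_card.mp hK
  obtain ⟨j, -, hj⟩ := (Nat.dvd_prime_pow hp).mp
    (hk ▸ hdeg ▸ H80.ClassMult.charDegree_dvd_card χ : d χ ∣ p ^ k)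
  rcases (show j = 0 ∨ 1 ≤ j by omega) with h0 | h1
  · exfalso
    have hone : (χ : K → ℂ) 1 = 1 := by rw [hd, hj, h0]; simp
    have hres : Cfsg.IsIrrCharacter N0 fun x : N0 => (χ : K → ℂ) x :=
      Characters.Basic.isIrrCharacter_of_degree_one
        (Characters.Basic.isCharacter_comp N0.subtype (Characters.Basic.isCharacter_irr χ))
        (by simpa using hone)
    have heq : (θ : N0 → ℂ) = fun x : N0 => (χ : K → ℂ) x := by
      by_contra hne'
      have h2 := hmu χ
      rw [Induced.Basic.frobenius_reciprocity N0 _ (Characters.Basic.isClassFunction_irr χ),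
        show Cfsg.classInner (θ : N0 → ℂ) (fun x : N0 => (χ : K → ℂ) x) = 0 from
          Characters.Basic.classInner_irr_of_ne (χ := θ) (ψ := ⟨_, hres⟩)
            fun h => hne' (congrArg Subtype.val h)] at h2
      exact hχ (by exact_mod_cast h2.symm)
    refine hne (Units.ext ?_)
    have e1 := congrFun heq ⟨t * a * t⁻¹, Subgroup.Normal.conj_mem ‹N0.Normal› _ a.2 t⟩
    have e2 := congrFun heq a
    simp only [θ, Characters.Linear.linChar_apply] at e1 e2
    rw [e1, e2]
    exact Characters.Basic.isClassFunction_irr χ (a : K) t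
  · rw [hdeg]
    refine le_antisymm hle ?_
    rw [hj]
    exact Nat.le_self_pow (by omega) p

variable (e : Pts p w m ≃ Fin n) (T : Subgroup (Perm (Fin w)))

/-- The subgroup. -/
def wr0 : Subgroup (Perm (Fin n)) := (wrHom e T).range

theorem card_wr0 : Nat.card (wr0 e T) = p ^ w * Nat.card T := by
  haveI : NeZero p := ⟨(Fact.out : p.Prime).ne_zero⟩
  rw [wr0, ← Nat.card_congr ((wrHom e T).ofInjective (wrHom_injective e T)).toEquiv, card_wr]

theorem isPGroup_wr0 (hT : IsPGroup p T) : IsPGroup p (wr0 e T) :=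
  (isPGroup_wr T hT).of_surjective (wrHom e T).rangeRestrict (wrHom e T).rangeRestrict_surjective

theorem sign_eq_one_of_pow_odd {k : ℕ} (hp : p ≠ 2) {g : Perm (Fin n)} (hg : g ^ p ^ k = 1) :
    Perm.sign g = 1 := by
  have h := congrArg Perm.sign hg
  rw [map_pow, map_one] at h
  rcases Int.units_eq_one_or (Perm.sign g) with h' | h'
  · exact h'
  · rw [h', Odd.neg_one_pow ((Nat.Prime.odd_of_ne_two Fact.out hp).pow)] at h
    exact absurd h (by decide)

theorem sign_topG (hp : p = 2) (π : Perm (Fin w)) : Perm.sign (topG e π) = 1 := by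
  subst hp
  show Perm.sign (e.permCongr (sumCongr (π.prodCongr (Equiv.refl _)) (Equiv.refl _))) = 1
  rw [Perm.sign_permCongr, Perm.sign_sumCongr, Perm.sign_refl, mul_one,
    show (π.prodCongr (Equiv.refl (ZMod 2)) : Perm (Fin w × ZMod 2)) =
      prodCongrLeft fun _ => π from Equiv.ext fun a => rfl, Perm.sign_prodCongrLeft,
    prod_const, card_univ, ZMod.card, Int.units_sq]

theorem sign_shiftG (c : Tr p w) :
    Perm.sign (shiftG e c) = ∏ i, Perm.sign (Equiv.addLeft (c i).toAdd) := by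
  haveI : NeZero p := ⟨(Fact.out : p.Prime).ne_zero⟩
  show Perm.sign (e.permCongr (sumCongr (Equiv.prodCongrRight fun i => Equiv.addLeft (c i).toAdd)
    (Equiv.refl _))) = _
  rw [Perm.sign_permCongr, Perm.sign_sumCongr, Perm.sign_refl, mul_one, Perm.sign_prodCongrRight]

theorem sign_addLeft_one (hp : p = 2) : Perm.sign (Equiv.addLeft (1 : ZMod p)) = -1 := by
  subst hp
  convert sign_addLeft_two

/-- The even part. -/
def wrEven : Subgroup (Wr p T) := (Perm.sign.comp (wrHom e T)).ker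

theorem map_wrEven : (wrEven e T).map (wrHom e T) = wr0 e T ⊓ alternatingGroup (Fin n) := by
  ext g
  simp only [wrEven, wr0, Subgroup.mem_map, MonoidHom.mem_ker, MonoidHom.comp_apply,
    Subgroup.mem_inf, MonoidHom.mem_range, Perm.mem_alternatingGroup]
  constructor
  · rintro ⟨u, hu, rfl⟩; exact ⟨⟨u, rfl⟩, hu⟩
  · rintro ⟨⟨u, rfl⟩, hu⟩; exact ⟨u, hu, rfl⟩

/-- A Sylow subgroup containing a transposition. -/
theorem exists_sylow (p w : ℕ) [Fact p.Prime] : ∃ T : Sylow p (Perm (Fin w)),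
    p = 2 → 2 ≤ w → ∃ j l : Fin w, j ≠ l ∧ swap j l ∈ (T : Subgroup (Perm (Fin w))) := by
  by_cases h : p = 2 ∧ 2 ≤ w
  · obtain ⟨rfl, hw⟩ := h
    let j : Fin w := ⟨0, by omega⟩
    let l : Fin w := ⟨1, by omega⟩
    have hjl : j ≠ l := by simp [j, l, Fin.ext_iff]
    have hord : orderOf (swap j l) = 2 :=
      orderOf_eq_prime (by rw [sq, swap_mul_self]) fun h => hjl (swap_eq_one_iff.mp h)
    obtain ⟨T, hT⟩ := (IsPGroup.of_card (n := 1) (by rw [Nat.card_zpowers, hord, pow_one]) :
      IsPGroup 2 (Subgroup.zpowers (swap j l))).exists_le_sylow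
    exact ⟨T, fun _ _ => ⟨j, l, hjl, hT (Subgroup.mem_zpowers _)⟩⟩
  · exact ⟨default, fun h1 h2 => absurd ⟨h1, h2⟩ h⟩

theorem exists_maximal_above {P : Type} [Group P] [Finite P] (hP : IsPGroup p P)
    {St : Subgroup P} (hne : St ≠ ⊤) :
    ∃ M : Subgroup P, M.Normal ∧ M.index = p ∧ St ≤ M := by
  have hp : p.Prime := Fact.out
  obtain ⟨a, ha⟩ := IsPGroup.iff_card.mp hP
  obtain ⟨b, hb⟩ := IsPGroup.iff_card.mp (hP.to_subgroup St)
  have hlt : Nat.card St < Nat.card P :=
    lt_of_le_of_ne (Nat.card_le_card_of_injective _ Subtype.val_injective)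
      fun h => hne (Subgroup.eq_top_of_card_eq St h)
  rw [hb, ha] at hlt
  have hba : b < a := (Nat.pow_lt_pow_iff_right hp.one_lt).mp hlt
  obtain ⟨M, hMc, hStM⟩ := Sylow.exists_subgroup_card_pow_prime_le p
    (show p ^ (a - 1) ∣ Nat.card P by rw [ha]; exact pow_dvd_pow p (by omega)) St hb (by omega)
  have hMidx : M.index = p := by
    have h := M.index_mul_card
    rw [ha, hMc, show p ^ a = p * p ^ (a - 1) by
      rw [← pow_succ', Nat.sub_add_cancel (by omega)]] at h
    exact Nat.eq_of_mul_eq_mul_right (pow_pos hp.pos _) h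
  refine ⟨M, Subgroup.normal_of_index_eq_minFac_card ?_, hMidx, hStM⟩
  rw [hMidx, ha, Nat.pow_minFac (by omega), hp.minFac_eq]

theorem mem_wrEven_iff {u : Wr p T} : u ∈ wrEven e T ↔
    Perm.sign (shiftG e u.left) * Perm.sign (topG e (u.right : Perm (Fin w))) = 1 := by
  rw [wrEven, MonoidHom.mem_ker, MonoidHom.comp_apply, wrHom_apply, map_mul]

theorem inr_mem_wrEven (hT : IsPGroup p T) (τ : T) :
    (SemidirectProduct.inr τ : Wr p T) ∈ wrEven e T := by
  rw [mem_wrEven_iff, SemidirectProduct.left_inr, SemidirectProduct.right_inr,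
    map_one (shiftG e), map_one Perm.sign, one_mul]
  by_cases h2 : p = 2
  · exact sign_topG e h2 _
  · obtain ⟨k, hk⟩ := hT τ
    refine sign_eq_one_of_pow_odd (k := k) h2 ?_
    rw [← map_pow, ← Subgroup.coe_pow, hk, OneMemClass.coe_one, map_one]

/-- The projection to the permutations of the cycles. -/
def evenProj : wrEven e T →* T := SemidirectProduct.rightHom.comp (wrEven e T).subtype

theorem evenProj_surjective (hT : IsPGroup p T) : Function.Surjective (evenProj e T) := fun τ =>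
  ⟨⟨SemidirectProduct.inr τ, inr_mem_wrEven e T hT τ⟩, by simp [evenProj]⟩

theorem finite_wr : Finite (Wr p T) := by
  haveI : NeZero p := ⟨(Fact.out : p.Prime).ne_zero⟩
  exact Finite.of_equiv _ SemidirectProduct.equivProd.symm

/-- The product of a character over an orbit. -/
def orbitChar (M : Subgroup T) (O : Finset (Fin w))
    (hinv : ∀ g ∈ M, ∀ k, ((g : T) : Perm (Fin w)) k ∈ O ↔ k ∈ O)
    (ψ : Multiplicative (ZMod p) →* ℂˣ) : M.comap (evenProj e T) →* ℂˣ where
  toFun x := ∏ k ∈ O, ψ (((x : wrEven e T) : Wr p T).left k)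
  map_one' := by simp
  map_mul' x y := by
    simp only [Subgroup.coe_mul, SemidirectProduct.mul_left, Pi.mul_apply, map_mul,
      prod_mul_distrib]
    congr 1
    show ∏ k ∈ O, ψ (((y : wrEven e T) : Wr p T).left
      ((evenProj e T x : Perm (Fin w)).symm k)) = _
    refine prod_equiv (evenProj e T x : Perm (Fin w)).symm (fun k => ?_) fun _ _ => rfl
    have := hinv _ x.2 ((evenProj e T x : Perm (Fin w)).symm k)
    simpa using this

theorem exists_char_of_translation (hT : IsPGroup p T) (M : Subgroup T) [M.Normal]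
    (hidx : M.index = p) (O : Finset (Fin w))
    (hinv : ∀ g ∈ M, ∀ k, ((g : T) : Perm (Fin w)) k ∈ O ↔ k ∈ O)
    (ψ : Multiplicative (ZMod p) →* ℂˣ) (τ : T) (c : Tr p w)
    (hc : (SemidirectProduct.inl c : Wr p T) ∈ wrEven e T)
    (hne : ∏ k ∈ O, ψ (c ((τ : Perm (Fin w)).symm k)) ≠ ∏ k ∈ O, ψ (c k)) :
    ∃ φ : Cfsg.IrrCharacter (wrEven e T),
      Cfsg.charDegree (φ : wrEven e T → ℂ) = p := by
  haveI := finite_wr (p := p) T
  have hidx' : (M.comap (evenProj e T)).index = p := by
    rw [Subgroup.index_comap_of_surjective M (evenProj_surjective e T hT), hidx]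
  have hcM : (⟨SemidirectProduct.inl c, hc⟩ : wrEven e T) ∈ M.comap (evenProj e T) := by
    simp [evenProj]
  refine exists_degree_p ((isPGroup_wr T hT).to_subgroup _) hidx' (orbitChar e T M O hinv ψ)
    ⟨_, inr_mem_wrEven e T hT τ⟩ ⟨_, hcM⟩ ?_
  show ∏ k ∈ O, ψ ((SemidirectProduct.inr τ * SemidirectProduct.inl c *
      (SemidirectProduct.inr τ)⁻¹ : Wr p T).left k) ≠ ∏ k ∈ O, ψ (c k)
  rw [← map_inv, ← SemidirectProduct.inl_aut, SemidirectProduct.left_inl]
  exact hne

/-- The action on an orbit. -/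
def orbitRes (M : Subgroup T) (O : Finset (Fin w))
    (hinv : ∀ g ∈ M, ∀ k, ((g : T) : Perm (Fin w)) k ∈ O ↔ k ∈ O) :
    M →* Perm {k // k ∈ O} where
  toFun g := ((g : T) : Perm (Fin w)).subtypePerm fun k => hinv _ g.2 k
  map_one' := Equiv.ext fun _ => Subtype.ext rfl
  map_mul' _ _ := Equiv.ext fun _ => Subtype.ext rfl

theorem sign_orbitRes_swap (M : Subgroup T) (O : Finset (Fin w))
    (hinv : ∀ g ∈ M, ∀ k, ((g : T) : Perm (Fin w)) k ∈ O ↔ k ∈ O) (g : M) {j l : Fin w}
    (hjl : j ≠ l) (hg : ((g : T) : Perm (Fin w)) = swap j l) :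
    (j ∈ O → Perm.sign (orbitRes T M O hinv g) = -1) ∧
      (j ∉ O → Perm.sign (orbitRes T M O hinv g) = 1) := by
  classical
  have hsame : j ∈ O ↔ l ∈ O := by
    have := hinv _ g.2 j
    rw [hg, swap_apply_left] at this
    exact this.symm
  refine ⟨fun hj => ?_, fun hj => ?_⟩
  · have e1 : orbitRes T M O hinv g = swap ⟨j, hj⟩ ⟨l, hsame.mp hj⟩ :=
      Equiv.ext fun k => Subtype.ext (by
        show ((g : T) : Perm (Fin w)) k = _
        rw [hg]
        simp only [swap_apply_def, Subtype.ext_iff]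
        split_ifs <;> rfl)
    rw [e1, Perm.sign_swap fun h => hjl (congrArg Subtype.val h)]
  · have e1 : orbitRes T M O hinv g = 1 := Equiv.ext fun k => Subtype.ext (by
      show ((g : T) : Perm (Fin w)) k = (k : Fin w)
      rw [hg, swap_apply_of_ne_of_ne]
      · exact fun h => hj (h ▸ k.2)
      · exact fun h => hj (hsame.mpr (h ▸ k.2)))
    rw [e1, map_one]

theorem exists_char_of_sign (hT : IsPGroup p T) (M : Subgroup T) [hMn : M.Normal]
    (hidx : M.index = p) (O : Finset (Fin w))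
    (hinv : ∀ g ∈ M, ∀ k, ((g : T) : Perm (Fin w)) k ∈ O ↔ k ∈ O) (τ : T) (σ : M)
    (hne : Perm.sign (orbitRes T M O hinv ⟨τ * σ * τ⁻¹, hMn.conj_mem _ σ.2 τ⟩) ≠
      Perm.sign (orbitRes T M O hinv σ)) :
    ∃ φ : Cfsg.IrrCharacter (wrEven e T),
      Cfsg.charDegree (φ : wrEven e T → ℂ) = p := by
  haveI := finite_wr (p := p) T
  have hidx' : (M.comap (evenProj e T)).index = p := by
    rw [Subgroup.index_comap_of_surjective M (evenProj_surjective e T hT), hidx]
  let ι : ℤˣ →* ℂˣ := Units.map (Int.castRingHom ℂ).toMonoidHom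
  have hinj : Function.Injective ι := fun u v h => by
    rcases Int.units_eq_one_or u with rfl | rfl <;> rcases Int.units_eq_one_or v with rfl | rfl <;>
      first
      | rfl
      | (exfalso; have := congrArg (fun z : ℂˣ => (z : ℂ)) h; norm_num [ι] at this)
  let pM : M.comap (evenProj e T) →* M :=
    ((evenProj e T).comp (Subgroup.subtype _)).codRestrict M fun x => x.2
  have hσM : (⟨SemidirectProduct.inr (σ : T), inr_mem_wrEven e T hT σ⟩ : wrEven e T) ∈
      M.comap (evenProj e T) := by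
    simp [evenProj]
  refine exists_degree_p ((isPGroup_wr T hT).to_subgroup _) hidx'
    (ι.comp (Perm.sign.comp ((orbitRes T M O hinv).comp pM)))
    ⟨_, inr_mem_wrEven e T hT τ⟩ ⟨_, hσM⟩ ?_
  intro hbad
  refine hne ?_
  have h := hinj hbad
  simp only [MonoidHom.comp_apply] at h
  exact h

/-- **The degree `p` character.** -/
theorem exists_char_wrEven (hw : p ≤ w) (hw2 : p = 2 → 3 ≤ w) (S : Sylow p (Perm (Fin w)))
    (hS : p = 2 → 2 ≤ w → ∃ j l : Fin w, j ≠ l ∧ swap j l ∈ (S : Subgroup (Perm (Fin w)))) :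
    ∃ φ : Cfsg.IrrCharacter ↥(wr0 e (S : Subgroup (Perm (Fin w))) ⊓ alternatingGroup (Fin n)),
      Cfsg.charDegree
        (φ : ↥(wr0 e (S : Subgroup (Perm (Fin w))) ⊓ alternatingGroup (Fin n)) → ℂ) = p := by
  classical
  have hp : p.Prime := Fact.out
  haveI : NeZero p := ⟨hp.ne_zero⟩
  set T : Subgroup (Perm (Fin w)) := (S : Subgroup (Perm (Fin w))) with hT
  suffices hsuff : ∃ φ : Cfsg.IrrCharacter (wrEven e T),
      Cfsg.charDegree (φ : wrEven e T → ℂ) = p by
    obtain ⟨φ, hφ⟩ := hsuff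
    let iso : ↥(wr0 e T ⊓ alternatingGroup (Fin n)) ≃* wrEven e T :=
      (((wrEven e T).equivMapOfInjective _ (wrHom_injective e T)).trans
        (MulEquiv.subgroupCongr (map_wrEven e T))).symm
    refine ⟨⟨fun x => (φ : wrEven e T → ℂ) (iso x),
      Characters.Basic.isIrrCharacter_comp iso.toMonoidHom iso.surjective φ.2⟩, ?_⟩
    refine Eq.trans ?_ hφ
    simp [Cfsg.charDegree]
  -- a moved point and a maximal subgroup above its stabiliser
  have hTp : IsPGroup p T := S.2
  have hT1 : (p : ℕ) ∣ Nat.card T := by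
    rw [hT, S.card_eq_multiplicity, Nat.card_perm, Nat.card_fin]
    exact dvd_pow_self p (hp.factorization_pos_of_dvd (Nat.factorial_ne_zero _)
      (Nat.dvd_factorial hp.pos hw)).ne'
  obtain ⟨i, τ0, hτ0⟩ : ∃ (i : Fin w) (τ : T), (τ : Perm (Fin w)) i ≠ i := by
    by_contra hcon
    push Not at hcon
    have : Subsingleton T :=
      ⟨fun x y => Subtype.ext (Equiv.ext fun i => (hcon i x).trans (hcon i y).symm)⟩
    rw [Nat.card_unique] at hT1
    exact hp.ne_one (Nat.dvd_one.mp hT1)
  set St : Subgroup T := (MulAction.stabilizer (Perm (Fin w)) i).comap T.subtype with hSt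
  have hStne : St ≠ ⊤ := fun h => hτ0 (by
    have : τ0 ∈ St := h ▸ Subgroup.mem_top _
    exact this)
  obtain ⟨M, hMn, hMidx, hStM⟩ := exists_maximal_above hTp hStne
  haveI := hMn
  -- the orbit of the point
  set O : Finset (Fin w) := univ.filter fun k => ∃ g ∈ M, ((g : T) : Perm (Fin w)) i = k with hO
  have memO : ∀ k, k ∈ O ↔ ∃ g ∈ M, ((g : T) : Perm (Fin w)) i = k := fun k => by simp [hO]
  have hinv : ∀ g ∈ M, ∀ k, ((g : T) : Perm (Fin w)) k ∈ O ↔ k ∈ O := by
    intro g hg k
    rw [memO, memO]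
    constructor
    · rintro ⟨h, hh, he⟩
      refine ⟨g⁻¹ * h, mul_mem (inv_mem hg) hh, ?_⟩
      simp [Perm.mul_apply, he]
    · rintro ⟨h, hh, rfl⟩
      exact ⟨g * h, mul_mem hg hh, rfl⟩
  have hout : ∀ τ : T, τ ∉ M → ∀ k ∈ O, (τ : Perm (Fin w)) k ∉ O := by
    intro τ hτ k hk hk'
    obtain ⟨h, hh, rfl⟩ := (memO k).mp hk
    obtain ⟨g, hg, hge⟩ := (memO _).mp hk'
    refine hτ ?_
    have : g⁻¹ * τ * h ∈ M := hStM (show _ ∈ St by
      rw [hSt, Subgroup.mem_comap, MulAction.mem_stabilizer_iff]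
      show ((g⁻¹ * τ * h : T) : Perm (Fin w)) i = i
      simp [Perm.mul_apply, ← hge])
    have h2 := mul_mem (mul_mem hg this) (inv_mem hh)
    simpa [mul_assoc] using h2
  have hiO : i ∈ O := (memO i).mpr ⟨1, one_mem _, rfl⟩
  obtain ⟨τ, hτ⟩ : ∃ τ : T, τ ∉ M := by
    by_contra hcon
    push Not at hcon
    rw [(Subgroup.eq_top_iff' M).mpr hcon, Subgroup.index_top] at hMidx
    exact hp.ne_one hMidx.symm
  obtain ⟨ψ, hψ⟩ : ∃ ψ : Multiplicative (ZMod p) →* ℂˣ, ψ (Multiplicative.ofAdd 1) ≠ 1 :=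
    CommGroup.exists_apply_ne_one_of_hasEnoughRootsOfUnity (Multiplicative (ZMod p)) ℂ
      (fun h => one_ne_zero (Multiplicative.ofAdd.injective (a₁ := (1 : ZMod p)) h))
  have finishA := exists_char_of_translation e T hTp M hMidx O hinv ψ τ
  by_cases h2 : p = 2
  swap
  · refine finishA (Pi.mulSingle i (Multiplicative.ofAdd 1)) ?_ ?_
    · rw [mem_wrEven_iff, SemidirectProduct.left_inl, SemidirectProduct.right_inl,
        OneMemClass.coe_one, map_one (topG e), map_one Perm.sign, mul_one]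
      obtain ⟨k, hk⟩ := isPGroup_tr (p := p) (w := w) (Pi.mulSingle i (Multiplicative.ofAdd 1))
      exact sign_eq_one_of_pow_odd (k := k) h2 (by rw [← map_pow, hk, map_one])
    · rw [prod_eq_one fun k hk => ?_, prod_eq_single i (fun k _ hk => by
          rw [Pi.mulSingle_eq_of_ne hk, map_one]) (fun h => absurd hiO h), Pi.mulSingle_eq_same]
      · exact Ne.symm hψ
      · rw [Pi.mulSingle_eq_of_ne, map_one]
        intro hki
        exact hout τ hτ i hiO (by rw [← hki, apply_symm_apply]; exact hk)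
  have hw3 := hw2 h2
  by_cases htr : ∃ k, ∀ g : T, (g : Perm (Fin w)) i ≠ k
  · obtain ⟨k, hk⟩ := htr
    have hkO : ∀ g : T, (g : Perm (Fin w)) k ∉ O := fun g hg => by
      obtain ⟨h, -, he⟩ := (memO _).mp hg
      refine hk (g⁻¹ * h) ?_
      simp [Perm.mul_apply, he]
    have hki : k ≠ i := fun e' => hk 1 (by simp [e'])
    refine finishA (Pi.mulSingle i (Multiplicative.ofAdd 1) *
      Pi.mulSingle k (Multiplicative.ofAdd 1)) ?_ ?_
    · rw [mem_wrEven_iff, SemidirectProduct.left_inl, SemidirectProduct.right_inl,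
        OneMemClass.coe_one, map_one (topG e), map_one Perm.sign, mul_one, map_mul, map_mul,
        sign_shiftG, sign_shiftG,
        prod_eq_single i (fun j _ hj => by rw [Pi.mulSingle_eq_of_ne hj]; simp) (by simp),
        prod_eq_single k (fun j _ hj => by rw [Pi.mulSingle_eq_of_ne hj]; simp) (by simp),
        Pi.mulSingle_eq_same, Pi.mulSingle_eq_same, toAdd_ofAdd, sign_addLeft_one h2]
      decide
    · rw [prod_eq_one fun j hj => ?_, prod_eq_single i (fun j hjO hj => by
          rw [Pi.mul_apply, Pi.mulSingle_eq_of_ne hj, Pi.mulSingle_eq_of_ne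
            (fun e' => hkO 1 (by simpa [e'] using hjO)), one_mul, map_one])
          (fun h => absurd hiO h), Pi.mul_apply, Pi.mulSingle_eq_same,
        Pi.mulSingle_eq_of_ne hki.symm, mul_one]
      · exact Ne.symm hψ
      · rw [Pi.mul_apply, Pi.mulSingle_eq_of_ne, Pi.mulSingle_eq_of_ne, one_mul, map_one]
        · intro e'
          exact hkO τ (by rw [← e', apply_symm_apply]; exact hj)
        · intro e'
          exact hout τ hτ i hiO (by rw [← e', apply_symm_apply]; exact hj)
  push Not at htr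
  obtain ⟨j, l, hjl, hsw⟩ := hS h2 (by omega)
  have hco : ∀ g g' : T, g ∉ M → g' ∉ M → g * g' ∈ M := fun g g' hg hg' => by
    have hi2 : M.index = 2 := hMidx.trans h2
    exact (Subgroup.mul_mem_iff_of_index_two hi2).mpr (iff_of_false hg hg')
  have hcover : ∀ k, k ∉ O → (τ : Perm (Fin w)) k ∈ O := by
    intro k hk
    obtain ⟨g0, rfl⟩ := htr k
    have hg : g0 ∉ M := fun hg => hk ((memO _).mpr ⟨g0, hg, rfl⟩)
    exact (memO _).mpr ⟨τ * g0, hco τ g0 hτ hg, rfl⟩
  have h2O : 2 ≤ O.card := by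
    have hs : (univ.filter fun k => k ∉ O).card ≤ O.card :=
      card_le_card_of_injOn (fun k => (τ : Perm (Fin w)) k)
        (fun k hk => hcover k (mem_filter.mp hk).2) fun a _ b _ h => (τ : Perm (Fin w)).injective h
    have h' := card_filter_add_card_filter_not (s := (univ : Finset (Fin w))) (fun k => k ∈ O)
    rw [filter_univ_mem, card_univ, Fintype.card_fin] at h'
    omega
  set σ : T := ⟨swap j l, hsw⟩
  have hσ : σ ∈ M := by
    by_contra hσ
    have hmoved : ∀ k ∈ O, k = j ∨ k = l := fun k hk => by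
      by_contra hc
      push Not at hc
      exact hout σ hσ k hk (by
        show swap j l k ∈ O
        rwa [swap_apply_of_ne_of_ne hc.1 hc.2])
    obtain ⟨x, hx, y, hy, hxy⟩ := one_lt_card.mp h2O
    rcases hmoved x hx with rfl | rfl <;> rcases hmoved y hy with rfl | rfl
    · exact hxy rfl
    · exact hout σ hσ x hx (by show swap x y x ∈ O; rwa [swap_apply_left])
    · exact hout σ hσ y hy (by show swap y x y ∈ O; rwa [swap_apply_left])
    · exact hxy rfl
  refine exists_char_of_sign e T hTp M hMidx O hinv τ ⟨σ, hσ⟩ ?_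
  obtain ⟨a1, a2⟩ := sign_orbitRes_swap T M O hinv ⟨σ, hσ⟩ hjl rfl
  obtain ⟨b1, b2⟩ := sign_orbitRes_swap T M O hinv ⟨τ * σ * τ⁻¹, hMn.conj_mem _ hσ τ⟩
    (fun h => hjl ((τ : Perm (Fin w)).injective h))
    (show ((τ * σ * τ⁻¹ : T) : Perm (Fin w)) = swap _ _ by
      rw [Subgroup.coe_mul, Subgroup.coe_mul, Subgroup.coe_inv]
      exact (swap_apply_apply (τ : Perm (Fin w)) j l).symm)
  by_cases hj : j ∈ O
  · rw [a1 hj, b2 (hout τ hτ j hj)]
    decide
  · rw [a2 hj, b1 (hcover j hj)]
    decide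

end Cfsg.Agent.Lib.SymHeight81
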