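import Cfsg.Agent.Lib.SymChar81.Rank
import Cfsg.Agent.Lib.SymChar81.Descend
import Mathlib.LinearAlgebra.Vandermonde
import Mathlib.RingTheory.Polynomial.Pochhammer
import Mathlib.LinearAlgebra.Matrix.Block

/-!
# Degrees of the characters of a symmetric group from bead tuples

`natAbs_chi_one_mul_hookProd`: the degree of the character of a bead tuple times the product of
all differences `x - y` (`x` a bead, `y` a gap below it) is the factorial.
-/

namespace Cfsg.Agent.Lib.SymHeight81

open Finset Cfsg.Agent.Lib.SymChar81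

variable {N n p : ℕ}

/-- Falling factorials of the bead positions. -/
noncomputable def ffMat (b : Fin N → ℤ) : Matrix (Fin N) (Fin N) ℤ :=
  Matrix.of fun i j => (descPochhammer ℤ (j : ℕ)).eval (b i)

/-- The difference product. -/
noncomputable def dd (b : Fin N → ℤ) : ℤ := (ffMat b).det

theorem dd_eq (b : Fin N → ℤ) : dd b = ∏ i, ∏ j ∈ Ioi i, (b j - b i) := by
  rw [dd, ← Matrix.det_vandermonde, Matrix.det_eval_matrixOfPolynomials_eq_det_vandermonde b
    (fun i => descPochhammer ℤ (i : ℕ)) (fun i => descPochhammer_natDegree ℤ _)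
    (fun i => monic_descPochhammer ℤ _)]
  rfl

theorem dd_comp (b : Fin N → ℤ) (π : Equiv.Perm (Fin N)) :
    dd (b ∘ π) = (Equiv.Perm.sign π : ℤ) * dd b := by
  rw [dd, show ffMat (b ∘ π) = (ffMat b).submatrix π id from rfl, Matrix.det_permute]
  simp [dd]

theorem dd_id : dd (fun i : Fin N => ((i : ℕ) : ℤ)) = ∏ i : Fin N, ((i : ℕ).factorial : ℤ) := by
  rw [dd, Matrix.det_of_lowerTriangular]
  · refine prod_congr rfl fun i _ => ?_
    rw [ffMat, Matrix.of_apply, descPochhammer_eval_eq_descFactorial, Nat.descFactorial_self]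
  · intro i j hij
    change (i : Fin N) < j at hij
    rw [ffMat, Matrix.of_apply, descPochhammer_eval_eq_descFactorial,
      Nat.descFactorial_eq_zero_iff_lt.mpr (by exact_mod_cast hij), Nat.cast_zero]

/-- **The recursion of the difference product.** -/
theorem sum_mul_dd (b : Fin N → ℤ) :
    ∑ i, b i * dd (sh 1 i b) = (∑ i, b i - tot N) * dd b := by
  have key : ∀ (j : ℕ) (z : ℤ), z * (descPochhammer ℤ j).eval (z - 1) =
      (descPochhammer ℤ j).eval z * (z - j) := fun j z => by
    have h1 := congrArg (Polynomial.eval z) (descPochhammer_succ_left ℤ j)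
    rw [descPochhammer_succ_right] at h1
    simp only [Polynomial.eval_mul, Polynomial.eval_comp, Polynomial.eval_sub, Polynomial.eval_X,
      Polynomial.eval_one, Polynomial.eval_natCast] at h1
    exact h1.symm
  simp only [dd, Matrix.det_apply', mul_sum]
  rw [sum_comm]
  refine sum_congr rfl fun σ _ => ?_
  have hterm : ∀ i, b i * ((Equiv.Perm.sign σ : ℤ) * ∏ k, ffMat (sh 1 i b) (σ k) k) =
      (b i - ((σ.symm i : ℕ) : ℤ)) * ((Equiv.Perm.sign σ : ℤ) * ∏ k, ffMat b (σ k) k) := by
    intro i
    rw [← mul_prod_erase univ (fun k => ffMat (sh 1 i b) (σ k) k) (mem_univ (σ.symm i)),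
      ← mul_prod_erase univ (fun k => ffMat b (σ k) k) (mem_univ (σ.symm i))]
    simp only [ffMat, Matrix.of_apply, Equiv.apply_symm_apply, sh_self]
    have h2 : ∏ k ∈ univ.erase (σ.symm i),
        (descPochhammer ℤ (k : ℕ)).eval (sh 1 i b (σ k)) =
        ∏ k ∈ univ.erase (σ.symm i), (descPochhammer ℤ (k : ℕ)).eval (b (σ k)) :=
      prod_congr rfl fun k hk => by
        rw [sh_of_ne]
        exact fun e => (mem_erase.mp hk).1 (by rw [← e, Equiv.symm_apply_apply])
    rw [h2]
    linear_combination ((Equiv.Perm.sign σ : ℤ) *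
      ∏ k ∈ univ.erase (σ.symm i), (descPochhammer ℤ (k : ℕ)).eval (b (σ k))) *
      key (σ.symm i : ℕ) (b i)
  refine (sum_congr rfl fun i _ => hterm i).trans ?_
  rw [← sum_mul, sum_sub_distrib, tot, Equiv.sum_comp σ.symm fun k => ((k : ℕ) : ℤ)]
  rfl

/-- **The degree formula.** -/
theorem chi_one_mul : ∀ (n : ℕ) (b : Fin N → ℤ), (∀ i, 0 ≤ b i) → ∑ i, b i = tot N + n →
    chi (Multiset.replicate n 1) b * ∏ i, (((b i).toNat.factorial : ℕ) : ℤ) =
      n.factorial * dd b := by
  intro n
  induction n with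
  | zero =>
    intro b h0 hs
    rw [Multiset.replicate_zero, chi_zero, Nat.factorial_zero, Nat.cast_one, one_mul]
    rw [Nat.cast_zero, add_zero] at hs
    by_cases hinj : Function.Injective b
    swap
    · rw [eq_zero_of_antisymm base_comp hinj, zero_mul, eq_zero_of_antisymm dd_comp hinj]
    have hlt : ∀ i, (b i).toNat < N := fun i => by
      have h1 := le_bound hinj h0 i
      have h2 := h0 i
      omega
    have hbij : Function.Bijective fun i => (⟨(b i).toNat, hlt i⟩ : Fin N) :=
      Finite.injective_iff_bijective.mp fun i j h => hinj (by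
        have h1 := congrArg Fin.val h
        have h2 := h0 i
        have h3 := h0 j
        simp only at h1
        omega)
    set τ := Equiv.ofBijective _ hbij
    have hb : b = (fun i : Fin N => ((i : ℕ) : ℤ)) ∘ τ := funext fun i => by
      show b i = ((b i).toNat : ℤ)
      have := h0 i
      omega
    have hbase : base (fun i : Fin N => ((i : ℕ) : ℤ)) = 1 := by
      rw [base, sum_eq_single 1]
      · simp
      · intro π _ hne
        rw [if_neg, mul_zero]
        intro h
        exact hne (Equiv.ext fun i => Fin.ext (by simpa using (congrFun h i).symm))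
      · simp
    rw [hb, base_comp, dd_comp, hbase, dd_id, mul_one]
    congr 1
    exact Eq.trans (by simp) (Equiv.prod_comp τ fun i : Fin N => (((i : ℕ).factorial : ℕ) : ℤ))
  | succ n ih =>
    intro b h0 hs
    rw [Multiset.replicate_succ, chi_cons, sum_mul,
      show ((n + 1).factorial : ℤ) * dd b = n.factorial * ((∑ i, b i - tot N) * dd b) by
        rw [hs, Nat.factorial_succ]; push_cast; ring, ← sum_mul_dd, mul_sum]
    refine sum_congr rfl fun i _ => ?_
    rw [Nat.cast_one]
    rcases eq_or_lt_of_le (h0 i) with h | h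
    · rw [← h, zero_mul, mul_zero, show chi (Multiset.replicate n 1) (sh 1 i b) = 0 from ?_,
        zero_mul]
      by_contra hne
      have := (chi_ne_zero_nonneg hne).1 i
      rw [sh_self] at this
      omega
    have h0' : ∀ a, 0 ≤ sh 1 i b a := fun a => by
      by_cases ha : a = i
      · subst ha; rw [sh_self]; omega
      · rw [sh_of_ne _ _ ha]; exact h0 a
    have hprod : ∏ a, (((b a).toNat.factorial : ℕ) : ℤ) =
        b i * ∏ a, (((sh 1 i b a).toNat.factorial : ℕ) : ℤ) := by
      rw [← mul_prod_erase univ _ (mem_univ i),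
        ← mul_prod_erase univ (fun a => (((sh 1 i b a).toNat.factorial : ℕ) : ℤ)) (mem_univ i),
        sh_self, ← mul_assoc]
      congr 1
      · obtain ⟨x, hx⟩ : ∃ x : ℕ, b i = ((x + 1 : ℕ) : ℤ) := ⟨(b i).toNat - 1, by omega⟩
        rw [hx, Int.toNat_natCast, show (((x + 1 : ℕ) : ℤ) - 1).toNat = x by omega,
          Nat.factorial_succ]
        push_cast
        ring
      · exact prod_congr rfl fun a ha => by rw [sh_of_ne _ _ (mem_erase.mp ha).1]
    rw [hprod, ← mul_assoc, mul_comm (chi _ _) (b i), mul_assoc,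
      ih _ h0' (by rw [sum_sh, hs]; push_cast; ring)]
    ring

/-- The product of the differences bead minus gap below it. -/
def hookProd (B : Finset ℕ) : ℕ := ∏ x ∈ B, ∏ y ∈ gaps 1 B x, (x - y)

theorem mem_gaps_one {B : Finset ℕ} {x y : ℕ} : y ∈ gaps 1 B x ↔ y < x ∧ y ∉ B := by
  simp [gaps, Nat.mod_one]

theorem hookProd_ne_zero (B : Finset ℕ) : hookProd B ≠ 0 :=
  prod_ne_zero_iff.mpr fun x _ => prod_ne_zero_iff.mpr fun y hy => by
    have := (mem_gaps_one.mp hy).1
    omega

theorem below_mul_hookProd (B : Finset ℕ) :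
    (∏ x ∈ B, ∏ y ∈ B.filter (· < x), (x - y)) * hookProd B = ∏ x ∈ B, x.factorial := by
  rw [hookProd, ← prod_mul_distrib]
  refine prod_congr rfl fun x _ => ?_
  rw [show gaps 1 B x = (range x).filter (fun y => ¬ y ∈ B) by
      ext y; simp [mem_gaps_one],
    show B.filter (· < x) = (range x).filter (fun y => y ∈ B) by
      ext y; simp [and_comm],
    prod_filter_mul_prod_filter_not, ← prod_range_reflect, ← prod_range_add_one_eq_factorial]
  exact prod_congr rfl fun y hy => by
    have := mem_range.mp hy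
    omega

theorem natAbs_dd {b : Fin N → ℤ} (hinj : Function.Injective b) (h0 : ∀ i, 0 ≤ b i) :
    (dd b).natAbs * hookProd (occ b) = ∏ i, (b i).toNat.factorial := by
  classical
  obtain ⟨π, hπ⟩ : ∃ π : Equiv.Perm (Fin N), Monotone (b ∘ π) :=
    ⟨Tuple.sort b, Tuple.monotone_sort b⟩
  set s : Fin N → ℕ := fun i => (b (π i)).toNat with hs
  have hmono : StrictMono s := fun i j hij => by
    have h := hπ.strictMono_of_injective (hinj.comp π.injective) hij
    have h1 := h0 (π i)
    simp only [Function.comp_apply] at h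
    simp only [hs]
    omega
  have hocc : occ b = univ.image s := by
    rw [occ, hs]
    ext z
    simp only [mem_image, mem_univ, true_and]
    exact ⟨fun ⟨i, hi⟩ => ⟨π.symm i, by simpa using hi⟩, fun ⟨i, hi⟩ => ⟨π i, hi⟩⟩
  have hd : (dd b).natAbs = ∏ i, ∏ j ∈ Iio i, (s i - s j) := by
    have h1 := congrArg Int.natAbs (dd_comp b π)
    rw [Int.natAbs_mul, Int.units_natAbs, one_mul] at h1
    rw [← h1, dd_eq, prod_comm' (t' := univ) (s' := fun i => Iio i) (by simp), ← Int.natAbsHom_apply,
      map_prod]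
    refine prod_congr rfl fun i _ => ?_
    rw [map_prod]
    refine prod_congr rfl fun j hj => ?_
    have h2 := hmono (mem_Iio.mp hj)
    have h3 := h0 (π i)
    have h4 := h0 (π j)
    simp only [Int.natAbsHom_apply, Function.comp_apply, hs] at h2 ⊢
    omega
  have hb : ∏ i, (b i).toNat.factorial = ∏ x ∈ univ.image s, x.factorial := by
    rw [prod_image fun i _ j _ h => hmono.injective h]
    exact (Equiv.prod_comp π fun i => (b i).toNat.factorial).symm
  rw [hd, hocc, hb, ← below_mul_hookProd]
  congr 1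
  rw [prod_image fun i _ j _ h => hmono.injective h]
  refine prod_congr rfl fun i _ => ?_
  rw [show (univ.image s).filter (· < s i) = (Iio i).image s by
    ext z
    simp only [mem_filter, mem_image, mem_univ, true_and, mem_Iio]
    constructor
    · rintro ⟨⟨j, rfl⟩, hj⟩
      exact ⟨j, hmono.lt_iff_lt.mp hj, rfl⟩
    · rintro ⟨j, hj, rfl⟩
      exact ⟨⟨j, rfl⟩, hmono hj⟩,
    prod_image fun i _ j _ h => hmono.injective h]

theorem natAbs_chi_one_mul_hookProd {b : Fin N → ℤ} (hb : IsBead n b) :
    (chi (Multiset.replicate n 1) b).natAbs * hookProd (occ b) = n.factorial := by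
  have h := congrArg Int.natAbs (chi_one_mul n b hb.2.1 hb.2.2)
  rw [Int.natAbs_mul, Int.natAbs_mul, ← Nat.cast_prod, Int.natAbs_natCast, Int.natAbs_natCast] at h
  have h2 := natAbs_dd hb.1 hb.2.1
  have hpos : 0 < ∏ i, (b i).toNat.factorial := prod_pos fun i _ => Nat.factorial_pos _
  refine Nat.eq_of_mul_eq_mul_right hpos ?_
  rw [mul_right_comm, h, mul_assoc, h2]

/-- Any finite set of positions is the bead set of a tuple. -/
theorem exists_tuple (B : Finset ℕ) {N : ℕ} (hN : B.card = N) :
    ∃ b : Fin N → ℤ, Function.Injective b ∧ (∀ i, 0 ≤ b i) ∧ occ b = B ∧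
      ∑ i, b i = ((∑ x ∈ B, x : ℕ) : ℤ) := by
  refine ⟨fun i => ((B.orderEmbOfFin hN i : ℕ) : ℤ),
    fun i j h => (B.orderEmbOfFin hN).injective (Int.ofNat_inj.mp h),
    fun i => Int.natCast_nonneg _, ?_, ?_⟩
  · rw [occ]
    simp only [Int.toNat_natCast]
    exact image_orderEmbOfFin_univ B hN
  · rw [← Nat.cast_sum]
    congr 1
    conv_rhs => rw [← image_orderEmbOfFin_univ B hN]
    rw [sum_image fun i _ j _ h => (B.orderEmbOfFin hN).injective h]

theorem sum_eq_add_wr (B : Finset ℕ) :
    ∑ x ∈ B, x = (∑ i ∈ range B.card, i) + wr 1 0 B := by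
  have h := runner_sum one_pos 0 B
  rw [show runner 1 0 B = B from filter_true_of_mem fun x _ => Nat.mod_one x] at h
  omega

/-- **The hook product divides the factorial of the number of boxes.** -/
theorem hookProd_dvd (B : Finset ℕ) : hookProd B ∣ (wr 1 0 B).factorial := by
  obtain ⟨b, h1, h2, h3, h4⟩ := exists_tuple B rfl
  have hb : IsBead (wr 1 0 B) b := ⟨h1, h2, by
    rw [h4, sum_eq_add_wr, tot, Fin.sum_univ_eq_sum_range (fun i => (i : ℤ))]
    push_cast
    ring⟩
  exact Dvd.intro_left _ (h3 ▸ natAbs_chi_one_mul_hookProd hb)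

theorem otype_one : otype (1 : Equiv.Perm (Fin n)) = Multiset.replicate n 1 := by
  classical
  have horb : ∀ y : Fin n, orb (1 : Equiv.Perm (Fin n)) y = {y} := fun y => by
    ext z
    rw [mem_orb, Equiv.Perm.sameCycle_one, mem_singleton, eq_comm]
  refine Multiset.eq_replicate.mpr ⟨?_, ?_⟩
  · rw [otype, Multiset.card_map, ← card_def, card_image_of_injective, card_univ, Fintype.card_fin]
    intro a c h
    simpa [horb] using h
  · intro k hk
    rw [otype, Multiset.mem_map] at hk
    obtain ⟨o, ho, rfl⟩ := hk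
    rw [Finset.mem_val, mem_image] at ho
    obtain ⟨y, -, rfl⟩ := ho
    rw [horb, card_singleton]

theorem charDegree_mul_hookProd {χ : Cfsg.IrrCharacter (Equiv.Perm (Fin n))} {b : Fin N → ℤ}
    (hb : HasBead n χ b) :
    Cfsg.charDegree (χ : Equiv.Perm (Fin n) → ℂ) * hookProd (occ b) = n.factorial := by
  obtain ⟨hbead, e, he, hχ⟩ := hb
  rw [← natAbs_chi_one_mul_hookProd hbead]
  congr 1
  obtain ⟨d, hd⟩ := Characters.Basic.exists_degree (Characters.Basic.isCharacter_irr χ)
  have h1 : (χ : Equiv.Perm (Fin n) → ℂ) 1 =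
      e * ((chi (Multiset.replicate n 1) b : ℤ) : ℂ) := by
    rw [hχ, Pi.smul_apply, theta, otype_one, smul_eq_mul]
  rw [Cfsg.charDegree, hd, Complex.natCast_re, Nat.floor_natCast]
  rw [hd] at h1
  rcases he with rfl | rfl
  · rw [one_mul] at h1
    rw [← show (d : ℤ) = chi (Multiset.replicate n 1) b by exact_mod_cast h1, Int.natAbs_natCast]
  · rw [neg_one_mul] at h1
    have h2 : (d : ℤ) = -chi (Multiset.replicate n 1) b := by exact_mod_cast h1
    omega

end Cfsg.Agent.Lib.SymHeight81
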