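import Cfsg.Agent.Lib.SymHeight81.Degree
import Cfsg.Agent.Lib.SymChar81.Mirror
import Mathlib.NumberTheory.Padics.PadicVal.Basic

/-!
# The `p`-part of hook products on runners

`hookVal_decomp`: the valuation of a hook product is the weight plus the valuations on the runners.
`exists_bead_height_one`: a bead tuple of prescribed core and weight `w ≥ p` one below the maximum.
-/

namespace Cfsg.Agent.Lib.SymHeight81

open Finset Cfsg.Agent.Lib.SymChar81

variable {N n p : ℕ}

/-- The valuation of the hook product. -/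
def hookVal (p : ℕ) (B : Finset ℕ) : ℕ := (hookProd B).factorization p

theorem hookVal_eq_sum (p : ℕ) (B : Finset ℕ) :
    hookVal p B = ∑ x ∈ B, ∑ y ∈ gaps 1 B x, (x - y).factorization p := by
  have hne : ∀ x, ∀ y ∈ gaps 1 B x, x - y ≠ 0 := fun x y hy => by
    have := (mem_gaps_one.mp hy).1
    omega
  rw [hookVal, hookProd, Nat.factorization_prod_apply]
  · exact sum_congr rfl fun x _ => by rw [Nat.factorization_prod_apply (hne x)]
  · exact fun x _ => prod_ne_zero_iff.mpr (hne x)

/-- The positions on a runner, counted along it. -/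
def quo (p r : ℕ) (B : Finset ℕ) : Finset ℕ := (runner p r B).image (· / p)

theorem mem_quo (hp : 0 < p) {r q : ℕ} (hr : r < p) {B : Finset ℕ} :
    q ∈ quo p r B ↔ p * q + r ∈ B := by
  simp only [quo, runner, mem_image, mem_filter]
  constructor
  · rintro ⟨x, ⟨hx, hxr⟩, rfl⟩
    rwa [← hxr, Nat.div_add_mod]
  · intro h
    exact ⟨p * q + r, ⟨h, by rw [Nat.mul_add_mod, Nat.mod_eq_of_lt hr]⟩,
      by rw [Nat.mul_add_div hp, Nat.div_eq_of_lt hr, add_zero]⟩

theorem div_injOn {r : ℕ} {s : Finset ℕ} (hs : ∀ x ∈ s, x % p = r) :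
    Set.InjOn (fun x => x / p) s := fun x hx y hy h => by
  simp only at h
  rw [← Nat.div_add_mod x p, ← Nat.div_add_mod y p, h, hs x hx, hs y hy]

theorem card_quo (p r : ℕ) (B : Finset ℕ) : (quo p r B).card = (runner p r B).card :=
  card_image_of_injOn (div_injOn fun _ hx => (mem_filter.mp hx).2)

theorem gaps_image (hp : 0 < p) {r x : ℕ} {B : Finset ℕ} (hx : x ∈ runner p r B) :
    gaps 1 (quo p r B) (x / p) = (gaps p B x).image (· / p) := by
  have hxr : x % p = r := (mem_filter.mp hx).2
  have hr : r < p := hxr ▸ Nat.mod_lt _ hp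
  have hx' := Nat.div_add_mod x p
  ext q
  rw [mem_gaps_one]
  simp only [mem_quo hp hr, gaps, mem_image, mem_filter, mem_range]
  constructor
  · rintro ⟨hq, hn⟩
    refine ⟨p * q + r, ⟨?_, ?_, hn⟩, by rw [Nat.mul_add_div hp, Nat.div_eq_of_lt hr, add_zero]⟩
    · have := Nat.mul_lt_mul_of_pos_left hq hp
      omega
    · rw [Nat.mul_add_mod, Nat.mod_eq_of_lt hr, hxr]
  · rintro ⟨y, ⟨hy, hym, hyn⟩, rfl⟩
    have hy' := Nat.div_add_mod y p
    refine ⟨?_, by rwa [show p * (y / p) + r = y by omega]⟩
    by_contra hc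
    have := Nat.mul_le_mul_left p (Nat.le_of_not_lt hc)
    omega

theorem wr_eq_quo (hp : 0 < p) (r : ℕ) (B : Finset ℕ) : wr p r B = wr 1 0 (quo p r B) := by
  unfold wr
  rw [show runner 1 0 (quo p r B) = quo p r B from filter_true_of_mem fun x _ => Nat.mod_one x,
    quo, sum_image (div_injOn (s := runner p r B) fun _ hx => (mem_filter.mp hx).2)]
  refine sum_congr rfl fun x hx => ?_
  rw [← quo, gaps_image hp hx,
    card_image_of_injOn (div_injOn fun y hy => (mem_filter.mp hy).2.1)]

theorem factorization_mul_self [Fact p.Prime] {d : ℕ} (hd : d ≠ 0) :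
    (p * d).factorization p = 1 + d.factorization p := by
  have hp : p.Prime := Fact.out
  rw [Nat.factorization_mul hp.ne_zero hd, Finsupp.add_apply, hp.factorization_self]

/-- **The decomposition on the runners.** -/
theorem hookVal_decomp [Fact p.Prime] (B : Finset ℕ) :
    hookVal p B = wt p B + ∑ r ∈ range p, hookVal p (quo p r B) := by
  have hp : p.Prime := Fact.out
  rw [hookVal_eq_sum, wt, ← sum_add_distrib,
    ← sum_fiberwise_of_maps_to (g := (· % p)) (t := range p)
      (fun x _ => mem_range.mpr (Nat.mod_lt x hp.pos))]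
  refine sum_congr rfl fun r _ => ?_
  rw [wr, hookVal_eq_sum, quo, sum_image (div_injOn (s := runner p r B) fun _ hx => (mem_filter.mp hx).2),
    ← sum_add_distrib]
  refine sum_congr rfl fun x hx => ?_
  rw [← quo, gaps_image hp.pos hx,
    sum_image (div_injOn (s := gaps p B x) fun y hy => (mem_filter.mp hy).2.1), card_eq_sum_ones, ← sum_add_distrib]
  have hg : gaps p B x = (gaps 1 B x).filter fun y => y % p = x % p := by
    ext y; simp only [gaps, mem_filter, mem_range, mem_gaps_one, Nat.mod_one]; tauto
  rw [← sum_subset (s₁ := gaps p B x) (hg ▸ filter_subset _ _) fun y hy hn => ?_]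
  · refine sum_congr rfl fun y hy => ?_
    obtain ⟨hyx, hym, -⟩ : y < x ∧ y % p = x % p ∧ y ∉ B := by simpa [gaps] using hy
    have h1 := Nat.div_add_mod x p
    have h2 := Nat.div_add_mod y p
    have h3 : x - y = p * (x / p - y / p) := by rw [Nat.mul_sub]; omega
    rw [h3, factorization_mul_self]
    intro h
    rw [h, mul_zero] at h3
    omega
  · obtain ⟨hyx, -⟩ := mem_gaps_one.mp hy
    refine Nat.factorization_eq_zero_of_not_dvd fun hd => hn (hg ▸ mem_filter.mpr ⟨hy, ?_⟩)
    exact ((Nat.modEq_iff_dvd' hyx.le).mpr hd : y ≡ x [MOD p])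

theorem hookVal_le [Fact p.Prime] (B : Finset ℕ) :
    hookVal p B ≤ wt p B + (wt p B).factorial.factorization p := by
  have hp : p.Prime := Fact.out
  rw [hookVal_decomp]
  refine Nat.add_le_add_left ?_ _
  calc ∑ r ∈ range p, hookVal p (quo p r B)
      ≤ ∑ r ∈ range p, (wr p r B).factorial.factorization p := sum_le_sum fun r _ => by
        rw [wr_eq_quo hp.pos]
        exact (Nat.factorization_le_iff_dvd (hookProd_ne_zero _)
          (Nat.factorial_ne_zero _)).mpr (hookProd_dvd _) p
    _ = (∏ r ∈ range p, (wr p r B).factorial).factorization p :=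
        (Nat.factorization_prod_apply fun r _ => Nat.factorial_ne_zero _).symm
    _ ≤ (wt p B).factorial.factorization p :=
        (Nat.factorization_le_iff_dvd (prod_ne_zero_iff.mpr fun r _ => Nat.factorial_ne_zero _)
          (Nat.factorial_ne_zero _)).mpr (Nat.prod_factorial_dvd_factorial_sum _ _) p

/-! ## One hook -/

/-- The bead set of one hook with leg `b` and `w` boxes. -/
def hookQ (c b w : ℕ) : Finset ℕ := insert (c + w) ((range (c + b + 1)).erase c)

theorem mem_hookQ {c b w x : ℕ} : x ∈ hookQ c b w ↔ x = c + w ∨ x ≠ c ∧ x < c + b + 1 := by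
  simp [hookQ]

theorem hookQ_spec {c b w : ℕ} (hb : b < w) :
    (hookQ c b w).card = c + b + 1 ∧ wr 1 0 (hookQ c b w) = w ∧
      hookProd (hookQ c b w) = b.factorial * (w * (w - b - 1).factorial) := by
  set B := hookQ c b w with hB
  have hnot : c + w ∉ (range (c + b + 1)).erase c := by simp; omega
  have hsplit : (range (c + b + 1)).erase c =
      range c ∪ (range b).image (fun t => c + 1 + t) := by
    ext x
    simp only [mem_erase, mem_range, mem_union, mem_image]
    constructor
    · rintro ⟨h1, h2⟩
      rcases Nat.lt_or_ge x c with h | h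
      · exact Or.inl h
      · exact Or.inr ⟨x - c - 1, by omega, by omega⟩
    · rintro (h | ⟨t, ht, rfl⟩) <;> omega
  have hdisj : Disjoint (range c) ((range b).image fun t => c + 1 + t) := by
    rw [disjoint_left]
    intro x hx hx'
    simp only [mem_range, mem_image] at hx hx'
    omega
  have hinj : Set.InjOn (fun t => c + 1 + t) ↑(range b) := fun _ _ _ _ h => by simpa using h
  have g1 : ∀ x ∈ range c, gaps 1 B x = ∅ := fun x hx => by
    ext y
    simp only [mem_gaps_one, hB, mem_hookQ, notMem_empty, iff_false, not_and, not_not]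
    have := mem_range.mp hx
    omega
  have g2 : ∀ t ∈ range b, gaps 1 B (c + 1 + t) = {c} := fun t ht => by
    ext y
    simp only [mem_gaps_one, hB, mem_hookQ, mem_singleton]
    have := mem_range.mp ht
    constructor
    · rintro ⟨h1, h2⟩
      omega
    · rintro rfl
      omega
  have g3 : gaps 1 B (c + w) =
      insert c ((range (w - b - 1)).image fun t => c + b + 1 + t) := by
    ext y
    simp only [mem_gaps_one, hB, mem_hookQ, mem_insert, mem_image, mem_range]
    constructor
    · rintro ⟨h1, h2⟩
      rcases Nat.lt_or_ge y (c + b + 1) with h | h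
      · left; omega
      · exact Or.inr ⟨y - (c + b + 1), by omega, by omega⟩
    · rintro (rfl | ⟨t, ht, rfl⟩) <;> omega
  have hcn : c ∉ (range (w - b - 1)).image fun t => c + b + 1 + t := by
    simp only [mem_image, mem_range]
    omega
  have hinj' : Set.InjOn (fun t => c + b + 1 + t) ↑(range (w - b - 1)) :=
    fun _ _ _ _ h => by simpa using h
  refine ⟨?_, ?_, ?_⟩
  · rw [hB, hookQ, card_insert_of_notMem hnot, card_erase_of_mem (by simp), card_range]
    omega
  · rw [wr, show runner 1 0 B = B from filter_true_of_mem fun x _ => Nat.mod_one x]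
    show ∑ x ∈ insert (c + w) ((range (c + b + 1)).erase c), (gaps 1 B x).card = w
    rw [sum_insert hnot, hsplit, sum_union hdisj, sum_image hinj, g3, sum_congr rfl fun x hx => congrArg card (g1 x hx),
      sum_congr rfl fun t ht => congrArg card (g2 t ht), card_insert_of_notMem hcn,
      card_image_of_injOn hinj']
    simp
    omega
  · rw [hookProd]
    show ∏ x ∈ insert (c + w) ((range (c + b + 1)).erase c), ∏ y ∈ gaps 1 B x, (x - y) = _
    have e1 : ∏ x ∈ range c, ∏ y ∈ gaps 1 B x, (x - y) = 1 :=
      prod_eq_one fun x hx => by rw [g1 x hx, prod_empty]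
    have e2 : ∏ t ∈ range b, ∏ y ∈ gaps 1 B (c + 1 + t), (c + 1 + t - y) =
        ∏ t ∈ range b, (c + 1 + t - c) :=
      prod_congr rfl fun t ht => by rw [g2 t ht, prod_singleton]
    rw [prod_insert hnot, hsplit, prod_union hdisj, prod_image hinj, g3, e1, one_mul, e2,
      prod_insert hcn,
      prod_image hinj', show c + w - c = w by omega,
      show ∏ t ∈ range b, (c + 1 + t - c) = b.factorial by
        rw [← prod_range_add_one_eq_factorial]
        exact prod_congr rfl fun t _ => by omega,
      show ∏ t ∈ range (w - b - 1), (c + w - (c + b + 1 + t)) = (w - b - 1).factorial by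
        rw [← prod_range_reflect, ← prod_range_add_one_eq_factorial]
        exact prod_congr rfl fun t ht => by
          have := mem_range.mp ht
          omega]
    ring

theorem hookProd_range (c : ℕ) : hookProd (range c) = 1 ∧ wr 1 0 (range c) = 0 := by
  have hg : ∀ x ∈ range c, gaps 1 (range c) x = ∅ := fun x hx => by
    ext y
    simp only [mem_gaps_one, mem_range, notMem_empty, iff_false]
    have := mem_range.mp hx
    omega
  refine ⟨prod_eq_one fun x hx => by rw [hg x hx, prod_empty], ?_⟩
  rw [wr, runner, filter_true_of_mem fun x _ => Nat.mod_one x]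
  exact sum_eq_zero fun x hx => by rw [hg x hx, card_empty]

/-! ## Binomial valuations -/

theorem fact_val [Fact p.Prime] (m : ℕ) {r : ℕ} (hr : r < p) :
    (p * m + r).factorial.factorization p = m + m.factorial.factorization p := by
  rw [Nat.factorization_def _ Fact.out, Nat.factorization_def _ Fact.out,
    padicValNat_factorial_mul_add m hr, padicValNat_factorial_mul]
  omega

theorem fact_val_small [Fact p.Prime] {r : ℕ} (hr : r < p) :
    r.factorial.factorization p = 0 := by
  simpa using fact_val 0 hr

theorem split_pow [Fact p.Prime] {q0 : ℕ} (hq0 : ¬ p ∣ q0) : ∀ j : ℕ,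
    (p - 1) * p ^ j < p ^ (j + 1) * q0 ∧
    ((p - 1) * p ^ j).factorial.factorization p +
      (p ^ (j + 1) * q0 - (p - 1) * p ^ j).factorial.factorization p + 1 =
      (p ^ (j + 1) * q0).factorial.factorization p := by
  have hp : p.Prime := Fact.out
  obtain ⟨m, rfl⟩ : ∃ m, q0 = m + 1 :=
    ⟨q0 - 1, by rcases q0 with _ | _ <;> simp_all⟩
  intro j
  induction j with
  | zero =>
    have := hp.two_le
    have e : p * (m + 1) - (p - 1) = p * m + 1 := by
      rw [Nat.mul_succ]; omega
    have e2 : (m + 1).factorial.factorization p = m.factorial.factorization p := by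
      rw [Nat.factorial_succ, Nat.factorization_mul (by omega) (Nat.factorial_ne_zero _),
        Finsupp.add_apply, Nat.factorization_eq_zero_of_not_dvd hq0, zero_add]
    refine ⟨?_, ?_⟩
    · rw [pow_zero, mul_one, zero_add, pow_one, Nat.mul_succ]; omega
    · rw [pow_zero, mul_one, zero_add, pow_one, e, fact_val_small (by omega), fact_val m (by omega),
        show p * (m + 1) = p * (m + 1) + 0 by ring, fact_val _ hp.pos, e2]
      omega
  | succ j ih =>
    obtain ⟨h1, h2⟩ := ih
    have ea : (p - 1) * p ^ (j + 1) = p * ((p - 1) * p ^ j) + 0 := by ring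
    have eb : p ^ (j + 1 + 1) * (m + 1) = p * (p ^ (j + 1) * (m + 1)) + 0 := by ring
    have ec : p ^ (j + 1 + 1) * (m + 1) - (p - 1) * p ^ (j + 1) =
        p * (p ^ (j + 1) * (m + 1) - (p - 1) * p ^ j) + 0 := by
      rw [ea, eb, add_zero, add_zero, add_zero, Nat.mul_sub]
    refine ⟨?_, ?_⟩
    · rw [ea, eb, add_zero, add_zero]
      exact Nat.mul_lt_mul_of_pos_left h1 hp.pos
    · rw [ec, ea, eb, fact_val _ hp.pos, fact_val _ hp.pos, fact_val _ hp.pos]
      omega

/-- Either a two row split or one hook loses exactly one. -/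
theorem exists_shape [Fact p.Prime] {w : ℕ} (hw : p ≤ w) :
    (∃ a, 0 < a ∧ a < w ∧ a.factorial.factorization p + (w - a).factorial.factorization p + 1 =
      w.factorial.factorization p) ∨
    w.factorization p + (w - p).factorial.factorization p + 1 = w.factorial.factorization p := by
  have hp : p.Prime := Fact.out
  have h2 := hp.two_le
  obtain ⟨m, r, hr, rfl⟩ : ∃ m r, r < p ∧ w = p * (m + 1) + r := by
    refine ⟨w / p - 1, w % p, Nat.mod_lt _ hp.pos, ?_⟩
    rw [Nat.sub_add_cancel ((Nat.one_le_div_iff hp.pos).mpr hw), Nat.div_add_mod]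
  by_cases hd : p ∣ m + 1
  · left
    obtain ⟨e, q0, hq0, he⟩ := Nat.exists_eq_pow_mul_and_not_dvd (Nat.succ_ne_zero m) p hp.ne_one
    obtain ⟨j, rfl⟩ : ∃ j, e = j + 1 := by
      rcases e with _ | j
      · rw [pow_zero, one_mul] at he
        exact absurd (he ▸ hd) hq0
      · exact ⟨j, rfl⟩
    simp only [Nat.succ_eq_add_one] at he
    obtain ⟨h1, h3⟩ := split_pow hq0 j
    refine ⟨p * ((p - 1) * p ^ j) + 0, ?_, ?_, ?_⟩
    · have : 0 < (p - 1) * p ^ j := Nat.mul_pos (by omega) (pow_pos hp.pos j)
      have := Nat.mul_pos hp.pos this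
      omega
    · have := Nat.mul_lt_mul_of_pos_left h1 hp.pos
      rw [he]; omega
    · have e : p * (m + 1) + r - (p * ((p - 1) * p ^ j) + 0) =
          p * (m + 1 - (p - 1) * p ^ j) + r := by
        have := Nat.mul_le_mul_left p h1.le
        rw [← he] at this
        rw [Nat.mul_sub]; omega
      rw [e, fact_val _ hp.pos, fact_val _ hr, fact_val _ hr]
      rw [← he] at h3 h1
      omega
  · have hm : (m + 1).factorial.factorization p = m.factorial.factorization p := by
      rw [Nat.factorial_succ, Nat.factorization_mul (by omega) (Nat.factorial_ne_zero _),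
        Finsupp.add_apply, Nat.factorization_eq_zero_of_not_dvd hd, zero_add]
    by_cases hr1 : r + 1 < p
    · left
      refine ⟨p - 1, by omega, by omega, ?_⟩
      rw [show p * (m + 1) + r - (p - 1) = p * m + (r + 1) by rw [Nat.mul_succ]; omega,
        fact_val_small (by omega), fact_val m hr1, fact_val _ hr, hm]
      omega
    · right
      have hnd : ¬ p ∣ p * (m + 1) + r := by
        rw [Nat.dvd_add_right (Dvd.intro _ rfl)]
        exact fun h => by have := Nat.le_of_dvd (by omega) h; omega
      rw [Nat.factorization_eq_zero_of_not_dvd hnd,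
        show p * (m + 1) + r - p = p * m + r by rw [Nat.mul_succ]; omega,
        fact_val m hr, fact_val _ hr, hm]
      omega

/-! ## Bead sets from runners -/

/-- The bead set with given runners. -/
def ofQuo (p : ℕ) (g : ℕ → Finset ℕ) : Finset ℕ :=
  (range p).biUnion fun r => (g r).image fun q => p * q + r

theorem quo_ofQuo (hp : 0 < p) (g : ℕ → Finset ℕ) {r : ℕ} (hr : r < p) :
    quo p r (ofQuo p g) = g r := by
  ext q
  simp only [mem_quo hp hr, ofQuo, mem_biUnion, mem_range, mem_image]
  constructor
  · rintro ⟨s, hs, t, ht, he⟩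
    have h1 := congrArg (· % p) he
    have h2 := congrArg (· / p) he
    simp only [Nat.mul_add_mod, Nat.mod_eq_of_lt hs, Nat.mod_eq_of_lt hr, Nat.mul_add_div hp,
      Nat.div_eq_of_lt hs, Nat.div_eq_of_lt hr, add_zero] at h1 h2
    exact h2 ▸ h1 ▸ ht
  · intro h
    exact ⟨r, hr, q, h, rfl⟩

theorem sum_eq_runners (hp : 0 < p) (B : Finset ℕ) :
    ∑ x ∈ B, x = (∑ r ∈ range p,
      (r * (runner p r B).card + p * ∑ i ∈ range (runner p r B).card, i)) + p * wt p B := by
  rw [wt, mul_sum, ← sum_add_distrib,
    ← sum_fiberwise_of_maps_to (g := (· % p)) (t := range p)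
      (fun x _ => mem_range.mpr (Nat.mod_lt x hp))]
  exact sum_congr rfl fun r _ => (runner_sum hp r B).trans (by ring)

theorem card_eq_runners (hp : 0 < p) (B : Finset ℕ) :
    B.card = ∑ r ∈ range p, (runner p r B).card :=
  card_eq_sum_card_fiberwise fun x _ => mem_coe.mpr (mem_range.mpr (Nat.mod_lt x hp))

theorem le_card_runner (hp : 0 < p) {b : Fin N → ℤ} (hb : IsBead n b) {k r : ℕ} (hr : r < p)
    (hN : n + p * k ≤ N) : k ≤ (runner p r (occ b)).card := by
  have hsub : (range k).image (fun q => p * q + r) ⊆ runner p r (occ b) := by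
    intro x hx
    obtain ⟨q, hq, rfl⟩ := mem_image.mp hx
    have hq' : p * q + p ≤ p * k := by
      rw [← Nat.mul_succ]; exact Nat.mul_le_mul_left p (mem_range.mp hq)
    refine mem_filter.mpr ⟨?_, by rw [Nat.mul_add_mod, Nat.mod_eq_of_lt hr]⟩
    rw [mem_occ hb.2.1]
    exact exists_eq_of_small hb.1 hb.2.1 (Int.natCast_nonneg _)
      (by rw [hb.2.2]; push_cast; omega)
  have h := card_le_card hsub
  rwa [card_image_of_injective _ fun a c h => Nat.eq_of_mul_eq_mul_left hp (Nat.add_right_cancel h),
    card_range] at h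

/-- A symmetric set flips the two runners. -/
theorem symSet_quo {S : Finset ℕ} (hS : SymSet N S) {r q : ℕ} (hr : r < 2) (hq : q < N) :
    q ∈ quo 2 r S ↔ N - 1 - q ∉ quo 2 (1 - r) S := by
  rw [mem_quo two_pos hr, mem_quo two_pos (by omega), hS.2 (2 * q + r) (by omega),
    show 2 * N - 1 - (2 * q + r) = 2 * (N - 1 - q) + (1 - r) by omega]

theorem lt_of_mem_quo {S : Finset ℕ} (hS : SymSet N S) {r q : ℕ} (hr : r < 2)
    (h : q ∈ quo 2 r S) : q < N := by
  have := hS.1 _ ((mem_quo two_pos hr).mp h)
  omega

/-- Two runners carrying one row each are symmetric only for single boxes. -/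
theorem not_symSet_rows {S : Finset ℕ} {r c a c' a' : ℕ} (hr : r < 2) (ha : 2 ≤ a)
    (h1 : quo 2 r S = hookQ c 0 a) (h2 : quo 2 (1 - r) S = hookQ c' 0 a') : ¬ SymSet N S := by
  intro hS
  have hT : c + a ∈ quo 2 r S := by rw [h1, mem_hookQ]; exact Or.inl rfl
  have hlt := lt_of_mem_quo hS hr hT
  have hu := (symSet_quo hS hr hlt).mp hT
  have hg : ∀ g, c ≤ g → g < c + a → N - 1 - g ∈ quo 2 (1 - r) S := by
    intro g hg1 hg2
    by_contra h
    have := (symSet_quo hS hr (show g < N by omega)).mpr h
    rw [h1, mem_hookQ] at this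
    omega
  have hc1 := hg c le_rfl (by omega)
  have hc2 := hg (c + 1) (by omega) (by omega)
  rw [h2, mem_hookQ] at hu hc1 hc2
  omega

/-- A weight on one runner only is not symmetric. -/
theorem not_symSet_hook {S : Finset ℕ} {c b w c' : ℕ} (hw : b < w)
    (h1 : quo 2 0 S = hookQ c b w) (h2 : quo 2 1 S = range c') : ¬ SymSet N S := by
  intro hS
  have hT : c + w ∈ quo 2 0 S := by rw [h1, mem_hookQ]; exact Or.inl rfl
  have hlt := lt_of_mem_quo hS two_pos hT
  have hu := (symSet_quo hS two_pos hlt).mp hT
  have hc : N - 1 - c ∈ quo 2 1 S := by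
    by_contra h
    have := (symSet_quo hS two_pos (show c < N by omega)).mpr h
    rw [h1, mem_hookQ] at this
    omega
  rw [show (1 - 0 : ℕ) = 1 from rfl, h2, mem_range] at hu
  rw [h2, mem_range] at hc
  omega

/-- **Height one.** A tuple in the same core class, one below the maximal valuation. -/
theorem exists_bead_height_one [Fact p.Prime] {b0 : Fin N → ℤ} (hb0 : IsBead n b0) {w : ℕ}
    (hw : wt p (occ b0) = w) (hpw : p ≤ w) (hN : n + p * p ≤ N) :
    ∃ b : Fin N → ℤ, IsBead n b ∧ rc p b = rc p b0 ∧
      hookVal p (occ b) + 1 = w + w.factorial.factorization p ∧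
      (p = 2 → 3 ≤ w → ¬ SymSet N (occ b)) := by
  have hp : p.Prime := Fact.out
  have h2 := hp.two_le
  set R : ℕ → ℕ := fun r => (runner p r (occ b0)).card
  have hR : ∀ r < p, p ≤ R r := fun r hr => le_card_runner hp.pos hb0 hr hN
  suffices hg : ∃ g : ℕ → Finset ℕ, (∀ r < p, (g r).card = R r) ∧
      ∑ r ∈ range p, wr 1 0 (g r) = w ∧
      ∑ r ∈ range p, hookVal p (g r) + 1 = w.factorial.factorization p ∧
      (p = 2 → 3 ≤ w → ¬ SymSet N (ofQuo p g)) by
    obtain ⟨g, hcard, hwt, hval, hns⟩ := hg
    set S := ofQuo p g with hSdef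
    have hrc : ∀ r < p, (runner p r S).card = R r := fun r hr => by
      rw [← card_quo, quo_ofQuo hp.pos g hr, hcard r hr]
    have hwS : wt p S = w := by
      rw [← hwt]
      exact sum_congr rfl fun r hr => by rw [wr_eq_quo hp.pos, quo_ofQuo hp.pos g (mem_range.mp hr)]
    have hcS : S.card = N := by
      rw [card_eq_runners hp.pos, sum_congr rfl fun r hr => hrc r (mem_range.mp hr),
        ← card_eq_runners hp.pos, occ, card_image_of_injective, card_univ, Fintype.card_fin]
      intro i j h
      exact hb0.1 (by have := hb0.2.1 i; have := hb0.2.1 j; simp only at h; omega)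
    obtain ⟨b, h1, h2', h3, h4⟩ := exists_tuple S hcS
    have hsum : ∑ x ∈ S, x = ∑ x ∈ occ b0, x := by
      rw [sum_eq_runners hp.pos, sum_eq_runners hp.pos (occ b0), hwS, hw]
      congr 1
      exact sum_congr rfl fun r hr => by rw [hrc r (mem_range.mp hr)]
    refine ⟨b, ⟨h1, h2', ?_⟩, ?_, ?_, fun hp2 hw3 => h3.symm ▸ hns hp2 hw3⟩
    · rw [h4, hsum, ← hb0.2.2, occ, sum_image, Nat.cast_sum]
      · exact sum_congr rfl fun i _ => Int.toNat_of_nonneg (hb0.2.1 i)
      · intro i _ j _ h
        exact hb0.1 (by have := hb0.2.1 i; have := hb0.2.1 j; simp only at h; omega)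
    · funext r
      rw [← card_runner_beadSet h1 h2', ← card_runner_beadSet hb0.1 hb0.2.1]
      show (runner p r (occ b)).card = R r
      rw [h3]
      by_cases hr : r < p
      · exact hrc r hr
      · have hz : ∀ B : Finset ℕ, runner p r B = ∅ := fun B =>
          filter_eq_empty_iff.mpr fun x _ h => hr (h ▸ Nat.mod_lt x hp.pos)
        simp [R, hz]
    · rw [h3, hookVal_decomp, hwS, sum_congr rfl fun r hr => by
        rw [quo_ofQuo hp.pos g (mem_range.mp hr)]]
      omega
  have hrange : ∀ r, (range (R r)).card = R r ∧ hookVal p (range (R r)) = 0 ∧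
      wr 1 0 (range (R r)) = 0 := fun r => ⟨card_range _, by
        rw [hookVal, (hookProd_range _).1]; simp, (hookProd_range _).2⟩
  have hR0 := hR 0 hp.pos
  have hR1 := hR 1 hp.one_lt
  rcases exists_shape hpw with ⟨a, ha, haw, hval⟩ | hval
  · obtain ⟨s1, s2, s3⟩ := hookQ_spec (c := R 0 - 1) ha
    obtain ⟨t1, t2, t3⟩ := hookQ_spec (c := R 1 - 1) (show 0 < w - a by omega)
    refine ⟨fun r => if r = 0 then hookQ (R 0 - 1) 0 a else
      if r = 1 then hookQ (R 1 - 1) 0 (w - a) else range (R r), fun r hr => ?_, ?_, ?_, ?_⟩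
    · dsimp only
      split_ifs with h0 h1
      · subst h0; omega
      · subst h1; omega
      · exact (hrange r).1
    · rw [sum_eq_add (0 : ℕ) 1 (by omega) ?_ (fun h => absurd (mem_range.mpr hp.pos) h)
        (fun h => absurd (mem_range.mpr hp.one_lt) h)]
      · simp only [if_pos, one_ne_zero, if_false, s2, t2]
        omega
      · intro r _ hr
        dsimp only
        rw [if_neg hr.1, if_neg hr.2, (hrange r).2.2]
    · rw [sum_eq_add (0 : ℕ) 1 (by omega) ?_ (fun h => absurd (mem_range.mpr hp.pos) h)
        (fun h => absurd (mem_range.mpr hp.one_lt) h)]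
      · simp only [if_pos, one_ne_zero, if_false, hookVal, s3, t3, Nat.factorial_zero, one_mul,
          Nat.sub_zero]
        rw [Nat.mul_factorial_pred (by omega : a ≠ 0),
          Nat.mul_factorial_pred (by omega : w - a ≠ 0)]
        omega
      · intro r _ hr
        dsimp only
        rw [if_neg hr.1, if_neg hr.2, (hrange r).2.1]
    · intro hp2 hw3
      subst hp2
      rcases (show 2 ≤ a ∨ 2 ≤ w - a by omega) with h | h
      · exact not_symSet_rows (r := 0) two_pos h
          (by rw [quo_ofQuo two_pos _ two_pos, if_pos rfl])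
          (by rw [quo_ofQuo two_pos _ (by omega), if_neg (by omega), if_pos (by omega)])
      · exact not_symSet_rows (r := 1) one_lt_two h
          (by rw [quo_ofQuo two_pos _ one_lt_two, if_neg (by omega), if_pos rfl])
          (by rw [quo_ofQuo two_pos _ (by omega), if_pos (by omega)])
  · obtain ⟨s1, s2, s3⟩ := hookQ_spec (c := R 0 - p) (show p - 1 < w by omega)
    refine ⟨fun r => if r = 0 then hookQ (R 0 - p) (p - 1) w else range (R r),
      fun r hr => ?_, ?_, ?_, ?_⟩
    · dsimp only
      split_ifs with h0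
      · subst h0; omega
      · exact (hrange r).1
    · rw [sum_eq_single 0 (fun r _ hr => by dsimp only; rw [if_neg hr, (hrange r).2.2])
        (fun h => absurd (mem_range.mpr hp.pos) h)]
      dsimp only
      rw [if_pos rfl, s2]
    · rw [sum_eq_single 0 (fun r _ hr => by dsimp only; rw [if_neg hr, (hrange r).2.1])
        (fun h => absurd (mem_range.mpr hp.pos) h)]
      dsimp only
      rw [if_pos rfl, hookVal, s3,
        show w - (p - 1) - 1 = w - p by omega,
        Nat.factorization_mul (Nat.factorial_ne_zero _)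
          (Nat.mul_ne_zero (by omega) (Nat.factorial_ne_zero _)),
        Nat.factorization_mul (by omega) (Nat.factorial_ne_zero _), Finsupp.add_apply,
        Finsupp.add_apply, fact_val_small (by omega : p - 1 < p)]
      omega
    · intro hp2 _
      subst hp2
      exact not_symSet_hook (show 2 - 1 < w by omega)
        (by rw [quo_ofQuo two_pos _ two_pos, if_pos rfl])
        (by rw [quo_ofQuo two_pos _ one_lt_two, if_neg one_ne_zero])

end Cfsg.Agent.Lib.SymHeight81
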