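import Cfsg.Agent.Lib.SymHeight81.Wreath
import Cfsg.Agent.Lib.SymHeight81.Quot
import Cfsg.Agent.Lib.SymHeight81.CharP
import Cfsg.Agent.Lib.SymChar81.AltMain
import Cfsg.Agent.Lib.BlockOverCore.Main
import Cfsg.Agent.Lib.Blocks.SectionMatrix
import Cfsg.Agent.Lib.Blocks.BlockPart
import Cfsg.Agent.Lib.NormalThree79.Block

/-!
# One block of the centraliser for each core

`isInducedBlock_core`: the characters of the centraliser over a character of defect zero of the
symmetric group on the rest form one block, inducing the block of every character with that core.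
`sameBlock_of_rc`: characters with the same core lie in one block.
`exists_wr0_le_defect`: defect groups contain the translations extended by any `p`-group.
-/

set_option linter.unusedSectionVars false

namespace Cfsg.Agent.Lib.SymHeight81

open Equiv Finset Cfsg.Agent.Lib.SymChar81
open Cfsg.Agent.Lib.Characters.Basic Cfsg.Agent.Lib.Clifford.Basic
open scoped ComplexConjugate

attribute [local instance] Ideal.Quotient.field

variable {p w m n N : ℕ} [Fact p.Prime] {M : Ideal Cfsg.AlgInt}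

/-- A character of a bead tuple without movable beads is alone in its block. -/
theorem eq_of_sameBlock_core (hM : Cfsg.IsPModular p M) {N : ℕ} (hN : m ≤ N)
    {κ κ' : Cfsg.IrrCharacter (Perm (Fin m))} {u : Fin N → ℤ} (hu : HasBead m κ u)
    (hgz : ∀ i, gp p u i = 0) (h : κ' ∈ Cfsg.blockOf M (κ : Perm (Fin m) → ℂ)) : κ' = κ := by
  haveI := hM.2.1
  have hp0 : 0 < p := (Fact.out : p.Prime).pos
  have hw : wt p (beadSet u) = 0 := by
    show wt p (occ u) = 0
    rw [wt_occ_eq_sum_gp hp0 hu.1.1 hu.1.2.1]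
    exact sum_eq_zero fun i _ => hgz i
  obtain ⟨c, hc⟩ := exists_hasBead hN κ'
  have hR := rc_eq_of_block hN hM (Blocks.isPBlock_blockOf κ) (Blocks.mem_blockOf_self κ) h hu hc
  have hwc : wt p (beadSet c) = 0 := by
    rw [← hw]
    exact wt_eq_of_box (R := rc p u) hp0 (mem_box.mpr ⟨hc.1.2.1, hc.1.2.2, hR⟩)
      (mem_box.mpr ⟨hu.1.2.1, hu.1.2.2, rfl⟩) hc.1.1 hu.1.1
  have hset : beadSet c = beadSet u := by
    refine eq_of_mem_fam_zero hp0 (R := rc p u) ⟨fun r _ => ?_, ?_, hwc⟩ ⟨fun r _ => ?_, ?_, hw⟩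
    · rw [card_runner_beadSet hc.1.1 hc.1.2.1, hR]
    · exact sum_eq_zero_iff.mp hwc 0 (mem_range.mpr hp0)
    · rw [card_runner_beadSet hu.1.1 hu.1.2.1]
    · exact sum_eq_zero_iff.mp hw 0 (mem_range.mpr hp0)
  obtain ⟨π, hπ⟩ := exists_perm_of_beadSet_eq hc.1.1 hu.1.2.1 hc.1.2.1 hset
  exact HasBead.eq hc (hπ ▸ hu.comp π)

variable (e : Pts p w m ≃ Fin n)

/-- The symmetric group on the rest as a normal subgroup of the centraliser. -/
noncomputable def restIso : Perm (Fin m) ≃* (rightH e).range :=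
  MonoidHom.ofInjective (rightH_injective e)

theorem restIso_coe (s : Perm (Fin m)) : ((restIso e s : (rightH e).range) : cen e) = rightH e s :=
  rfl

/-- A character of the rest transported. -/
noncomputable def restChar (κ : Cfsg.IrrCharacter (Perm (Fin m))) :
    Cfsg.IrrCharacter (rightH e).range :=
  ⟨fun x => (κ : Perm (Fin m) → ℂ) ((restIso e).symm x),
    isIrrCharacter_comp (restIso e).symm.toMonoidHom (restIso e).symm.surjective κ.2⟩

theorem restChar_apply (κ : Cfsg.IrrCharacter (Perm (Fin m))) (s : Perm (Fin m)) :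
    (restChar e κ : (rightH e).range → ℂ) (restIso e s) = (κ : Perm (Fin m) → ℂ) s := by
  show (κ : Perm (Fin m) → ℂ) ((restIso e).symm (restIso e s)) = _
  rw [MulEquiv.symm_apply_apply]

theorem conjC_rest (ξ : Cfsg.IrrCharacter (rightH e).range) (g : cen e) :
    conjC (rightH e).range g (ξ : (rightH e).range → ℂ) = ξ := by
  funext x
  obtain ⟨s, rfl⟩ := (restIso e).surjective x
  obtain ⟨τ, hτ⟩ := exists_conj_rightH e g
  rw [conjC_apply]
  have h : (⟨g * (restIso e s : cen e) * g⁻¹,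
      (rightH_normal e).conj_mem _ (restIso e s).2 g⟩ : (rightH e).range) =
      restIso e τ * restIso e s * (restIso e τ)⁻¹ := by
    apply Subtype.ext
    show g * rightH e s * g⁻¹ = rightH e τ * rightH e s * (rightH e τ)⁻¹
    rw [hτ s, map_mul, map_mul, map_inv]
  rw [h]
  exact isClassFunction_irr ξ _ _

theorem card_isConj_rightH (s : Perm (Fin m)) :
    Nat.card {a : cen e // IsConj (rightH e s) a} =
      Nat.card {t : Perm (Fin m) // IsConj s t} := by
  refine (Nat.card_congr (Equiv.ofBijective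
    (fun t : {t : Perm (Fin m) // IsConj s t} =>
      (⟨rightH e t, (isConj_rightH e).mpr t.2⟩ : {a : cen e // IsConj (rightH e s) a}))
    ⟨fun t t' h => Subtype.ext (rightH_injective e (congrArg Subtype.val h)), fun a => ?_⟩)).symm
  obtain ⟨g, hg⟩ := isConj_iff.mp a.2
  obtain ⟨τ, hτ⟩ := exists_conj_rightH e g
  exact ⟨⟨τ * s * τ⁻¹, isConj_iff.mpr ⟨τ, rfl⟩⟩, Subtype.ext ((hτ s).symm.trans hg)⟩

/-- The central character on the rest is that of the constituent. -/
theorem centralChar_rightH (θ : Cfsg.IrrCharacter (cen e))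
    (ξ : Cfsg.IrrCharacter (rightH e).range) [Fintype (cen e)] [Fintype (rightH e).range]
    (hθ : Cfsg.classInner (fun x : (rightH e).range => (θ : cen e → ℂ) x) ξ ≠ 0)
    (s : Perm (Fin m)) :
    Cfsg.centralChar (θ : cen e → ℂ) (rightH e s) =
      Cfsg.centralChar (fun t => (ξ : (rightH e).range → ℂ) (restIso e t)) s := by
  have hr := restrict_eq_smul (rightH e).range θ.2 ξ hθ fun g => conjC_rest e ξ g
  have h1 := congrFun hr (restIso e s)
  have h2 := congrFun hr 1
  simp only [Pi.smul_apply, smul_eq_mul, OneMemClass.coe_one] at h1 h2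
  rw [restIso_coe] at h1
  rw [Cfsg.centralChar, Cfsg.centralChar, ← BrauerMap.ClassSum.card_isConj,
    ← BrauerMap.ClassSum.card_isConj, card_isConj_rightH, map_one (restIso e)]
  rw [h1, h2]
  have hξ := apply_one_ne_zero ξ
  field_simp

section Core

variable (hM : Cfsg.IsPModular p M) {N : ℕ} (hN : m ≤ N)
  (κ : Cfsg.IrrCharacter (Perm (Fin m))) {u : Fin N → ℤ}

/-- The characters over a character of the rest. -/
def overSet [Fintype (rightH e).range] : Set (Cfsg.IrrCharacter (cen e)) :=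
  {θ | Cfsg.classInner (fun x : (rightH e).range => (θ : cen e → ℂ) x)
    (restChar e κ : (rightH e).range → ℂ) ≠ 0}

variable [Fintype (cen e)] [Fintype (rightH e).range]

include hM hN in
theorem blockOf_eq_overSet (hu : HasBead m κ u) (hgz : ∀ i, gp p u i = 0)
    {θ : Cfsg.IrrCharacter (cen e)} (hθ : θ ∈ overSet e κ) :
    Cfsg.blockOf M (θ : cen e → ℂ) = overSet e κ := by
  haveI := hM.2.1
  ext φ
  constructor
  · intro hφ
    obtain ⟨ξ, hξ⟩ := exists_constituent_restrict (rightH e).range φ.2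
    let ξ' : Cfsg.IrrCharacter (Perm (Fin m)) :=
      ⟨fun t => (ξ : (rightH e).range → ℂ) (restIso e t),
        isIrrCharacter_comp (restIso e).toMonoidHom (restIso e).surjective ξ.2⟩
    have hb : ξ' ∈ Cfsg.blockOf M (κ : Perm (Fin m) → ℂ) := fun s => by
      have h := hφ (rightH e s)
      rw [centralChar_rightH e φ ξ hξ s, centralChar_rightH e θ _ hθ s] at h
      simp only [restChar_apply] at h
      exact h
    have he := eq_of_sameBlock_core hM hN hu hgz hb
    have hξe : ξ = restChar e κ := by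
      refine Subtype.ext (funext fun x => ?_)
      obtain ⟨t, rfl⟩ := (restIso e).surjective x
      rw [restChar_apply, ← he]
    rwa [hξe] at hξ
  · intro hφ
    exact BlockOverCore.Main.sameBlock_over hM (rightH e).range (centralizer_pCore_le e)
      (restChar e κ) (fun g => conjC_rest e _ g) θ φ hθ hφ

/-- The part of a character of the symmetric group over the rest. -/
theorem blockPart_overSet (χ : Cfsg.IrrCharacter (Perm (Fin n))) (c : ℂ)
    (hc : ∀ s, (χ : Perm (Fin n) → ℂ) (xG e * rightG e s) = c * (κ : Perm (Fin m) → ℂ) s)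
    (s : Perm (Fin m)) :
    Cfsg.blockPart (overSet e κ) (fun h : cen e => (χ : Perm (Fin n) → ℂ) h)
      (⟨xG e, shiftG_mem e _⟩ * rightH e s) = c * (κ : Perm (Fin m) → ℂ) s := by
  classical
  letI := Fintype.ofFinite (Cfsg.IrrCharacter (cen e))
  set x : cen e := ⟨xG e, shiftG_mem e _⟩ with hx
  have hxc : ∀ h : cen e, Commute x h := fun h => Subtype.ext
    (Subgroup.mem_centralizer_singleton_iff.mp h.2).symm
  set f : cen e → ℂ := fun h => (χ : Perm (Fin n) → ℂ) h with hf
  have hfc : Cfsg.IsClassFunction (cen e) f := fun g h => by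
    simp only [hf, Subgroup.coe_mul, Subgroup.coe_inv]
    exact isClassFunction_irr χ _ _
  have hexp : ∀ g, f g = ∑ φ : Cfsg.IrrCharacter (cen e),
      Cfsg.classInner f φ * (φ : cen e → ℂ) g := fun g => by
    conv_lhs => rw [Characters.Complete.classFunction_eq_sum hfc]
    exact Blocks.BlockPart.sum_smul_apply _ g
  set a : Cfsg.IrrCharacter (cen e) → ℂ :=
    fun φ => Cfsg.classInner f φ * Blocks.SectionMatrix.lam x φ with ha
  have hlin : ∀ φ : Cfsg.IrrCharacter (cen e), ∀ t, Cfsg.classInner f φ * (φ : cen e → ℂ)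
      (x * t) = a φ * (φ : cen e → ℂ) t := fun φ t => by
    rw [Blocks.SectionMatrix.apply_central_mul hxc φ t, ha]
    ring
  have hfun : ∀ y : (rightH e).range,
      ∑ φ, a φ * (φ : cen e → ℂ) y = c * (restChar e κ : (rightH e).range → ℂ) y := by
    intro y
    obtain ⟨t, rfl⟩ := (restIso e).surjective y
    rw [restChar_apply, ← hc, restIso_coe, ← sum_congr rfl fun φ _ => hlin φ (rightH e t), ← hexp]
    rfl
  set I : Cfsg.IrrCharacter (cen e) → ℂ := fun φ =>
    Cfsg.classInner (fun y : (rightH e).range => (φ : cen e → ℂ) y) (restChar e κ) with hI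
  have hsum : ∑ φ, a φ * I φ = c := by
    have h1 := classInner_self_irr (restChar e κ)
    calc ∑ φ, a φ * I φ = Cfsg.classInner
          (fun y : (rightH e).range => ∑ φ, a φ * (φ : cen e → ℂ) y) (restChar e κ) := by
          simp only [hI, Cfsg.classInner, sum_mul, mul_sum]
          rw [sum_comm]
          exact sum_congr rfl fun y _ => sum_congr rfl fun φ _ => by ring
      _ = c * Cfsg.classInner (restChar e κ : (rightH e).range → ℂ) (restChar e κ) := by
          simp only [hfun, Cfsg.classInner, mul_sum]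
          exact sum_congr rfl fun y _ => by ring
      _ = c := by rw [h1, mul_one]
  have hres : ∀ φ ∈ overSet e κ, (φ : cen e → ℂ) (rightH e s) =
      I φ * (κ : Perm (Fin m) → ℂ) s := by
    intro φ hφ
    have h := congrFun (restrict_eq_smul (rightH e).range φ.2 (restChar e κ) hφ
      fun g => conjC_rest e _ g) (restIso e s)
    simpa only [Pi.smul_apply, smul_eq_mul, restIso_coe, restChar_apply] using h
  rw [Blocks.BlockPart.blockPart_apply,
    sum_congr rfl fun φ hφ => by
      rw [hlin φ, hres φ ((Set.toFinite _).mem_toFinset.mp hφ), ← mul_assoc],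
    ← sum_mul, ← hsum]
  congr 1
  refine sum_subset (subset_univ _) fun φ _ hφ => ?_
  have : I φ = 0 := by
    by_contra hne
    exact hφ ((Set.toFinite _).mem_toFinset.mpr hne)
  rw [this, mul_zero]

include hM hN in
/-- **The block over the rest induces the block of each character of that core.** -/
theorem isInducedBlock_core (hu : HasBead m κ u) (hgz : ∀ i, gp p u i = 0)
    (χ : Cfsg.IrrCharacter (Perm (Fin n))) {c : ℂ} (hc0 : c ≠ 0)
    (hc : ∀ s, (χ : Perm (Fin n) → ℂ) (xG e * rightG e s) = c * (κ : Perm (Fin m) → ℂ) s) :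
    Cfsg.IsInducedBlock M (cen e) (overSet e κ) (Cfsg.blockOf M (χ : Perm (Fin n) → ℂ)) := by
  classical
  haveI := hM.2.1
  haveI := Blocks.charP_residue hM
  haveI : NeZero p := ⟨(Fact.out : p.Prime).ne_zero⟩
  obtain ⟨s, hs, hsp⟩ := exists_chi_core_ne_zero (Fact.out : p.Prime).pos hu.1 hgz
  have hκs : (κ : Perm (Fin m) → ℂ) s ≠ 0 := by
    obtain ⟨-, ε, hε, hκ⟩ := id hu
    rw [hκ, Pi.smul_apply, smul_eq_mul, theta]
    rcases hε with rfl | rfl <;> simpa using hs
  have hne : Cfsg.blockPart (overSet e κ) (fun h : cen e => (χ : Perm (Fin n) → ℂ) h)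
      (⟨xG e, shiftG_mem e _⟩ * rightH e s) ≠ 0 := by
    rw [blockPart_overSet e κ χ c hc]
    exact mul_ne_zero hc0 hκs
  obtain ⟨θ, hθ⟩ : (overSet e κ).Nonempty := by
    rw [Set.nonempty_iff_ne_empty]
    intro h0
    rw [Blocks.BlockPart.blockPart_apply] at hne
    refine hne (sum_eq_zero fun φ hφ => absurd ((Set.toFinite _).mem_toFinset.mp hφ) ?_)
    rw [h0]
    exact Set.notMem_empty φ
  have hb : Cfsg.IsPBlock M (overSet e κ) :=
    ⟨θ, (blockOf_eq_overSet e hM hN κ hu hgz hθ).symm⟩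
  obtain ⟨k, hk⟩ := xG_pow e
  have hy : ¬ p ∣ orderOf (rightG e s) := by
    rw [orderOf_injective _ (rightG_injective e)]
    exact (isPRegular_iff s).mpr hsp
  have hxy : Commute (xG e) (rightG e s) := shiftG_mul_rightG e _ s
  have hxP : IsPGroup p (Subgroup.zpowers (xG e)) :=
    IsPGroup.of_card (n := k) (by rw [Nat.card_zpowers, hk])
  have hPH : Subgroup.zpowers (xG e) ≤ cen e := Subgroup.zpowers_le.mpr (shiftG_mem e _)
  have hC : Subgroup.centralizer (Subgroup.zpowers (xG e) : Set (Perm (Fin n))) ≤ cen e :=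
    Subgroup.centralizer_le (Set.singleton_subset_iff.mpr (Subgroup.mem_zpowers (xG e)))
  have hN' : cen e ≤ Subgroup.normalizer (Subgroup.zpowers (xG e) : Set (Perm (Fin n))) := by
    refine le_trans ?_ (Subgroup.centralizer_le_normalizer _)
    intro z hz
    refine Subgroup.mem_centralizer_iff.mpr ?_
    rintro _ ⟨i, rfl⟩
    exact ((show Commute z (xG e) from
      Subgroup.mem_centralizer_singleton_iff.mp hz).zpow_right i).eq.symm
  obtain ⟨B', hind⟩ := Blocks.inducedBlockDefined_of_le_normalizer hM hxP hPH hC hN' hb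
  by_contra hno
  refine hne ?_
  rw [Blocks.BlockPart.blockPart_eq_sum (overSet e κ)
    (f := fun h : cen e => (χ : Perm (Fin n) → ℂ) h) fun g h => by
      simp only [Subgroup.coe_mul, Subgroup.coe_inv]
      exact isClassFunction_irr χ _ _]
  refine Eq.trans (sum_congr rfl fun z _ => ?_) ((finsum_eq_sum_of_fintype _).symm.trans
    (Blocks.finsum_blockCoeff_mul_eq_zero hM hb hk hy hxy (rightG_mem e s) le_rfl χ fun ξ hξ => ?_))
  · congr 1
    show (χ : Perm (Fin n) → ℂ) (xG e * rightG e s * z) =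
      (χ : Perm (Fin n) → ℂ) (z * (xG e * rightG e s))
    rw [← isClassFunction_irr χ (xG e * rightG e s * z) z]
    congr 1
    group
  · obtain ⟨ψ, hψ⟩ := Blocks.isPBlock_nonempty hind.2.1
    rw [Blocks.inducedBar_eq_omegaBar hind hξ hψ, Blocks.omegaBar_blockIdemBar, if_neg]
    intro hmem
    refine hno ?_
    rw [← Blocks.blockOf_eq_of_mem hmem, ← Blocks.isPBlock_eq_blockOf hind.2.1 hψ]
    exact hind

include hM hN in
/-- The defect groups of the block over the rest contain the translations extended by `p`-groups. -/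
theorem exists_conj_wr0_le (hu : HasBead m κ u) (hgz : ∀ i, gp p u i = 0)
    {θ : Cfsg.IrrCharacter (cen e)} (hθ : θ ∈ overSet e κ) {T : Subgroup (Perm (Fin w))}
    (hT : IsPGroup p T) {E : Subgroup (cen e)}
    (hE : Cfsg.IsDefectGroup p M (overSet e κ) E) :
    ∃ g : cen e, ((wr0 e T).subgroupOf (cen e)).map (MulAut.conj g).toMonoidHom ≤ E := by
  classical
  haveI := hM.2.1
  haveI := Blocks.charP_residue hM
  have hb : Cfsg.IsPBlock M (overSet e κ) := ⟨θ, (blockOf_eq_overSet e hM hN κ hu hgz hθ).symm⟩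
  obtain ⟨g, hg, S, hS⟩ := id hE
  have hreg : ¬ p ∣ orderOf g := Blocks.not_dvd_orderOf_isDefectClass hM hb hg
  haveI : (shiftH e).range.Normal := ⟨by
    rintro _ ⟨c, rfl⟩ h
    obtain ⟨π, hπ, -⟩ := shiftH_conj e h c
    exact ⟨_, hπ.symm⟩⟩
  have hVp : IsPGroup p (shiftH e).range :=
    (isPGroup_tr (p := p) (w := w)).of_surjective (shiftH e).rangeRestrict
      (shiftH e).rangeRestrict_surjective
  have hgV : g ∈ Subgroup.centralizer ((shiftH e).range : Set (cen e)) := by
    by_contra hn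
    exact ((BrauerPairs.Bridge.isDefectClass_iff hb g).mp hg).2
      (BrauerMap.Nilpotent.algHom_classSum_eq_zero hVp hn _)
  have hcomm : ∀ d, g * shiftH e d * g⁻¹ = shiftH e d := fun d => by
    rw [← Subgroup.mem_centralizer_iff.mp hgV _ ⟨d, rfl⟩, mul_inv_cancel_right]
  have hsinj : Function.Injective (shiftH e) := fun a b h =>
    shiftG_injective e (congrArg Subtype.val h)
  obtain ⟨π, -, hπ⟩ := shiftH_conj e g 1
  have hπ1 : π = 1 := by
    ext i
    by_contra hne
    have h := hsinj ((hπ (Pi.mulSingle i (Multiplicative.ofAdd 1))).1.symm.trans (hcomm _))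
    have h' := congrFun h (π i)
    rw [Function.comp_apply, Equiv.symm_apply_apply, Pi.mulSingle_eq_same,
      Pi.mulSingle_eq_of_ne (show π i ≠ i from fun e' => hne (congrArg Fin.val e'))] at h'
    simp at h'
  obtain ⟨d, τ, hgd⟩ := (hπ 1).2 hπ1
  have hcd : ∀ a b, Commute (shiftH e a) (rightH e b) := fun a b =>
    Subtype.ext (shiftG_mul_rightG e a b).eq
  have hd : d = 1 := by
    have h1 := pow_orderOf_eq_one g
    rw [hgd, (hcd d τ).mul_pow, ← map_pow, ← map_pow] at h1
    have h2 : d ^ orderOf (shiftH e d * rightH e τ) = 1 := by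
      have h1' : e.permCongrHom
          (shiftHom p w m (d ^ orderOf (shiftH e d * rightH e τ)) *
            rightHom' p w m (τ ^ orderOf (shiftH e d * rightH e τ))) = e.permCongrHom 1 := by
        rw [map_mul, map_one]
        exact congrArg Subtype.val h1
      funext i
      have h3 : Sum.inl (α := Fin w × ZMod p) (β := Fin m)
          (i, ((d ^ orderOf (shiftH e d * rightH e τ)) i).toAdd + 0) = Sum.inl (i, 0) :=
        congrFun (congrArg DFunLike.coe (e.permCongrHom.injective h1'))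
          (Sum.inl (i, (0 : ZMod p)))
      have h4 := (Prod.ext_iff.mp (Sum.inl.inj h3)).2
      rw [add_zero] at h4
      exact Multiplicative.toAdd.injective h4
    rw [← hgd] at h2
    obtain ⟨k, hk⟩ := isPGroup_tr (p := p) (w := w) d
    refine orderOf_eq_one_iff.mp (Nat.eq_one_of_dvd_coprimes ?_
      (orderOf_dvd_of_pow_eq_one hk) (orderOf_dvd_of_pow_eq_one h2))
    exact Nat.Coprime.pow_left k (((Fact.out : p.Prime).coprime_iff_not_dvd).mpr hreg)
  rw [hd, map_one, one_mul] at hgd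
  refine Blocks.exists_conj_le_isDefectGroup hM hb hE hg.2.1 ?_ ?_
  · exact ((isPGroup_wr0 e T hT).comap_of_injective _ (cen e).subtype_injective)
  · intro z hz
    obtain ⟨v, hv⟩ := Subgroup.mem_subgroupOf.mp hz
    rw [Subgroup.mem_centralizer_singleton_iff, hgd]
    apply Subtype.ext
    rw [Subgroup.coe_mul, Subgroup.coe_mul, rightH_coe, ← hv]
    exact (wrHom_mul_rightG e T v τ).eq

end Core

/-- The core of a bead tuple and the values at the cycles. -/
theorem exists_core {n : ℕ} {χ : Cfsg.IrrCharacter (Perm (Fin n))} {b : Fin N → ℤ}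
    (hb : HasBead n χ b) (hn : n ≤ N) {w : ℕ} (hw : wt p (occ b) = w) :
    ∃ (m : ℕ) (_ : n = p * w + m) (_ : m ≤ N) (κ : Cfsg.IrrCharacter (Perm (Fin m)))
      (u : Fin N → ℤ) (K : ℂ), K ≠ 0 ∧ HasBead m κ u ∧ (∀ i, gp p u i = 0) ∧ rc p u = rc p b ∧
      ∀ (e : Pts p w m ≃ Fin n) (s : Perm (Fin m)),
        (χ : Perm (Fin n) → ℂ) (xG e * rightG e s) = K * (κ : Perm (Fin m) → ℂ) s := by
  have hp : p.Prime := Fact.out
  haveI : NeZero p := ⟨hp.ne_zero⟩
  obtain ⟨hbead, ε, hε, hχ⟩ := hb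
  obtain ⟨m, K, hnm, hK, hcore, hgz, hchi⟩ := chi_replicate hp.pos w n b hbead
    (by rw [← wt_occ_eq_sum_gp hp.pos hbead.1 hbead.2.1, hw])
  have hmN : m ≤ N := by omega
  obtain ⟨κ, hκ⟩ := exists_char_of_bead hcore
  obtain ⟨-, δ, hδ, hκeq⟩ := id hκ
  have hδ2 : δ * δ = 1 := by rcases hδ with rfl | rfl <;> norm_num
  refine ⟨m, hnm, hmN, κ, core p b, ε * K * δ, ?_, hκ, hgz, ?_, fun e s => ?_⟩
  · refine mul_ne_zero (mul_ne_zero ?_ (Nat.cast_ne_zero.mpr hK.ne')) ?_
    · rcases hε with rfl | rfl <;> norm_num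
    · rcases hδ with rfl | rfl <;> norm_num
  · funext r
    simp only [rc, core, Int.sub_mul_emod_self_left]
  · have hs : (otype s).sum = m := by rw [otype_sum, Fintype.card_fin]
    rw [hχ, hκeq, Pi.smul_apply, Pi.smul_apply, smul_eq_mul, smul_eq_mul, theta, theta,
      otype_xG_rightG, hchi _ hs]
    push_cast
    linear_combination -(ε * K * ((chi (otype s) (core p b) : ℤ) : ℂ)) * hδ2

/-- **Equal cores, one block.** -/
theorem sameBlock_of_rc (hM : Cfsg.IsPModular p M) (hn : n ≤ N)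
    {χ χ' : Cfsg.IrrCharacter (Perm (Fin n))} {b b' : Fin N → ℤ} (hb : HasBead n χ b)
    (hb' : HasBead n χ' b') (h : rc p b' = rc p b) :
    χ' ∈ Cfsg.blockOf M (χ : Perm (Fin n) → ℂ) := by
  classical
  haveI := hM.2.1
  have hp0 : 0 < p := (Fact.out : p.Prime).pos
  haveI : NeZero p := ⟨hp0.ne'⟩
  obtain ⟨w, hw⟩ : ∃ w, wt p (occ b) = w := ⟨_, rfl⟩
  have hw' : wt p (occ b') = w := by
    rw [← hw]
    exact wt_eq_of_box (R := rc p b) hp0 (mem_box.mpr ⟨hb'.1.2.1, hb'.1.2.2, h⟩)
      (mem_box.mpr ⟨hb.1.2.1, hb.1.2.2, rfl⟩) hb'.1.1 hb.1.1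
  obtain ⟨m, hnm, hmN, κ, u, K, hK, hu, hgz, hru, hval⟩ := exists_core hb hn hw
  obtain ⟨m', hnm', -, κ', u', K', hK', hu', hgz', hru', hval'⟩ := exists_core hb' hn hw'
  obtain rfl : m' = m := by omega
  have hwu : ∀ v : Fin N → ℤ, IsBead m' v → (∀ i, gp p v i = 0) → wt p (occ v) = 0 :=
    fun v hv hz => by
      rw [wt_occ_eq_sum_gp hp0 hv.1 hv.2.1]
      exact sum_eq_zero fun i _ => hz i
  have hset : beadSet u' = beadSet u := by
    have h1 : ∀ r < p, (runner p r (beadSet u')).card = rc p u r := fun r _ => by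
      rw [card_runner_beadSet hu'.1.1 hu'.1.2.1, hru', h, hru]
    have z1 := hwu u' hu'.1 hgz'
    have z2 := hwu u hu.1 hgz
    exact eq_of_mem_fam_zero hp0 (R := rc p u)
      ⟨h1, sum_eq_zero_iff.mp z1 0 (mem_range.mpr hp0), z1⟩
      ⟨fun r _ => card_runner_beadSet hu.1.1 hu.1.2.1 r,
        sum_eq_zero_iff.mp z2 0 (mem_range.mpr hp0), z2⟩
  obtain ⟨π, hπ⟩ := exists_perm_of_beadSet_eq hu'.1.1 hu.1.2.1 hu'.1.2.1 hset
  have hκ : κ' = κ := HasBead.eq hu' (hπ ▸ hu.comp π)
  subst hκ
  let e : Pts p w m' ≃ Fin n := Fintype.equivOfCardEq (by simp [ZMod.card, hnm, mul_comm])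
  letI := Fintype.ofFinite (cen e)
  letI := Fintype.ofFinite (rightH e).range
  have h1 := isInducedBlock_core e hM hmN κ' hu hgz χ hK (hval e)
  have h2 := isInducedBlock_core e hM hmN κ' hu hgz χ' hK' (hval' e)
  obtain ⟨ξ, hξ⟩ := Blocks.isPBlock_nonempty h1.1
  intro g
  have := Blocks.memLocalIdeal_sub (h2.2.2 ξ hξ χ' (Blocks.mem_blockOf_self χ') g)
    (h1.2.2 ξ hξ χ (Blocks.mem_blockOf_self χ) g)
  rwa [sub_sub_sub_cancel_left] at this

/-- **The defect groups contain the translations extended by a `p`-group.** -/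
theorem exists_wr0_le_defect (hM : Cfsg.IsPModular p M) (hn : n ≤ N)
    {χ : Cfsg.IrrCharacter (Perm (Fin n))} {b : Fin N → ℤ} (hb : HasBead n χ b)
    (hw : wt p (occ b) = w) {T : Subgroup (Perm (Fin w))} (hT : IsPGroup p T)
    {P : Subgroup (Perm (Fin n))}
    (hP : Cfsg.IsDefectGroup p M (Cfsg.blockOf M (χ : Perm (Fin n) → ℂ)) P) :
    ∃ (m : ℕ) (e : Pts p w m ≃ Fin n) (g : Perm (Fin n)),
      (wr0 e T).map (MulAut.conj g).toMonoidHom ≤ P := by
  classical
  haveI := hM.2.1
  haveI : NeZero p := ⟨(Fact.out : p.Prime).ne_zero⟩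
  obtain ⟨m, hnm, hmN, κ, u, K, hK, hu, hgz, -, hval⟩ := exists_core hb hn hw
  let e : Pts p w m ≃ Fin n := Fintype.equivOfCardEq (by simp [ZMod.card, hnm, mul_comm])
  letI := Fintype.ofFinite (cen e)
  letI := Fintype.ofFinite (rightH e).range
  have hind := isInducedBlock_core e hM hmN κ hu hgz χ hK (hval e)
  obtain ⟨θ, hθ⟩ := Blocks.isPBlock_nonempty hind.1
  obtain ⟨E, hE⟩ := Blocks.exists_isDefectGroup (p := p) hind.1
  obtain ⟨g, hg⟩ := exists_conj_wr0_le e hM hmN κ hu hgz hθ hT hE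
  obtain ⟨F, hF, hEF⟩ := Blocks.exists_defectGroup_ge_of_induced hM hind hE
  obtain ⟨y, rfl⟩ := Blocks.isDefectGroup_conj hM hind.2.1 hF hP
  refine ⟨m, e, y * g, ?_⟩
  rintro _ ⟨z, hz, rfl⟩
  obtain ⟨v, rfl⟩ := id hz
  refine ⟨(g : Perm (Fin n)) * wrHom e T v * (g : Perm (Fin n))⁻¹,
    hEF ⟨g * ⟨_, wrHom_mem e T v⟩ * g⁻¹, hg ⟨⟨_, wrHom_mem e T v⟩, hz, rfl⟩, rfl⟩, ?_⟩
  simp [mul_assoc]

end Cfsg.Agent.Lib.SymHeight81
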