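import Cfsg.Agent.Lib.SymHeight81.Local
import Cfsg.Agent.Lib.SymChar81.Mirror
import Cfsg.Agent.Lib.BrauerMap.Covering
import Cfsg.Agent.Lib.Blocks.ContribBound
import Cfsg.Agent.S4432
import Cfsg.Agent.S4438

/-!
# Height one in blocks of alternating groups
-/

set_option linter.unusedSectionVars false

namespace Cfsg.Agent.Lib.SymHeight81

open Equiv Finset Cfsg.Agent.Lib.SymChar81
open Cfsg.Agent.Lib.Characters.Basic Cfsg.Agent.Lib.Clifford.Basic
open scoped ComplexConjugate

attribute [local instance] Ideal.Quotient.field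

/-- Degrees of constituents in a subgroup of index two. -/
theorem degree_cases {G : Type} [Group G] [Fintype G] {N : Subgroup G} [N.Normal] [Fintype N]
    (hidx : N.index = 2) {t : G} (ht : t ∉ N) (χ : Cfsg.IrrCharacter G) (θ : Cfsg.IrrCharacter N)
    (hθ : Cfsg.classInner (fun n : N => (χ : G → ℂ) n) (θ : N → ℂ) ≠ 0) :
    Cfsg.charDegree (χ : G → ℂ) = Cfsg.charDegree (θ : N → ℂ) ∨
      (Cfsg.charDegree (χ : G → ℂ) = 2 * Cfsg.charDegree (θ : N → ℂ) ∧
        ∀ g ∉ N, (χ : G → ℂ) g = 0) := by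
  classical
  obtain ⟨d, hd⟩ := exists_degree (isCharacter_irr θ)
  obtain ⟨d', hd'⟩ := exists_degree (isCharacter_irr χ)
  simp only [Cfsg.charDegree, hd, hd', Complex.natCast_re, Nat.floor_natCast]
  by_cases hinv : conjC N t (θ : N → ℂ) = θ
  swap
  · right
    obtain ⟨h1, h2⟩ := restrict_split hidx ht χ θ hθ hinv
    refine ⟨?_, h2⟩
    have h := congrFun h1 1
    simp only [OneMemClass.coe_one, Pi.add_apply, conjC_apply] at h
    rw [hd', hd, show (⟨t * 1 * t⁻¹, _⟩ : N) = 1 from Subtype.ext (by simp), hd] at h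
    have h' : d' = d + d := by exact_mod_cast h
    omega
  left
  obtain ⟨k, hk⟩ := exists_classInner_nat (isCharacter_comp N.subtype (isCharacter_irr χ))
    (isCharacter_irr θ)
  have hk' : Cfsg.classInner (fun n : N => (χ : G → ℂ) n) (θ : N → ℂ) = (k : ℂ) := hk
  have hres := restrict_eq_smul N χ.2 θ hθ fun x => by
    rcases conjC_cases hidx θ ht x with h | h <;> simp [h, hinv]
  rw [hk'] at hres
  have hN0 : (Nat.card N : ℂ) ≠ 0 := Induced.Basic.subgroup_card_ne_zero N
  have hn1 : Cfsg.classInner (fun n : N => (χ : G → ℂ) n) (fun n : N => (χ : G → ℂ) n) =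
      ((k * k : ℕ) : ℂ) := by
    rw [hres, Induced.Basic.classInner_smul_left, Induced.Basic.classInner_smul_right,
      classInner_self_irr, Complex.conj_natCast]
    push_cast; ring
  have hn2 := classInner_self_irr χ
  rw [Cfsg.classInner] at hn1 hn2
  simp only [Complex.mul_conj, ← Complex.ofReal_sum] at hn1 hn2
  have hG : Nat.card G = 2 * Nat.card N := by rw [← N.index_mul_card, hidx]
  have hA : ∑ n : N, Complex.normSq ((χ : G → ℂ) n) = ((k * k : ℕ) : ℝ) * Nat.card N := by
    rw [inv_mul_eq_iff_eq_mul₀ hN0] at hn1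
    rw [mul_comm]
    exact_mod_cast hn1
  have hB : ∑ g : G, Complex.normSq ((χ : G → ℂ) g) = 2 * (Nat.card N : ℝ) := by
    rw [inv_mul_eq_iff_eq_mul₀ Induced.Basic.natCard_ne_zero, mul_one, hG] at hn2
    exact_mod_cast hn2
  have hle : ∑ n : N, Complex.normSq ((χ : G → ℂ) n) ≤ ∑ g : G, Complex.normSq ((χ : G → ℂ) g) := by
    rw [← sum_subtype (p := fun x : G => x ∈ N) (univ.filter fun x : G => x ∈ N) (fun x => by simp)
      fun g => Complex.normSq ((χ : G → ℂ) g)]
    exact sum_le_sum_of_subset_of_nonneg (filter_subset _ _) fun g _ _ => Complex.normSq_nonneg _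
  have hpos : (0 : ℝ) < Nat.card N := by exact_mod_cast Nat.card_pos
  have hkk : k * k ≤ 2 := by
    rw [hA, hB] at hle
    have : ((k * k : ℕ) : ℝ) ≤ 2 := le_of_mul_le_mul_right hle hpos
    exact_mod_cast this
  have hk0 : k ≠ 0 := fun h => hθ (by rw [hk', h, Nat.cast_zero])
  have hk1 : k = 1 := by
    by_contra hne
    have h2 : 2 ≤ k := by omega
    have := Nat.mul_le_mul h2 h2
    omega
  have h := congrFun hres 1
  simp only [OneMemClass.coe_one, Pi.smul_apply, smul_eq_mul, hk1, Nat.cast_one, one_mul] at h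
  rw [hd, hd'] at h
  exact_mod_cast h

variable {p n N : ℕ} [Fact p.Prime] {M : Ideal Cfsg.AlgInt}

theorem vdeg_add_hookVal {χ : Cfsg.IrrCharacter (Perm (Fin n))} {b : Fin N → ℤ}
    (hb : HasBead n χ b) :
    Blocks.Contrib.vdeg p χ + hookVal p (occ b) = n.factorial.factorization p := by
  have h := charDegree_mul_hookProd hb
  rw [← h, Nat.factorization_mul _ (hookProd_ne_zero _), Finsupp.add_apply, Blocks.Contrib.vdeg,
    hookVal]
  intro h0
  rw [h0, zero_mul] at h
  exact n.factorial_ne_zero h.symm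

theorem isMulCommutative_of_card {G : Type} [Group G] [Finite G] {k : ℕ} (hk : k ≤ 2)
    (h : Nat.card G = p ^ k) : IsMulCommutative G := by
  rcases (show k = 0 ∨ k = 1 ∨ k = 2 by omega) with rfl | rfl | rfl
  · haveI : Subsingleton G := (Nat.card_eq_one_iff_unique.mp (by simpa using h)).1
    exact ⟨⟨fun a b => Subsingleton.elim _ _⟩⟩
  · haveI : IsCyclic G := isCyclic_of_prime_card (p := p) (by simpa using h)
    exact IsCyclic.commGroup (α := G) |>.toCommMonoid |> fun _ => ⟨⟨fun a b => by
      obtain ⟨g, hg⟩ := IsCyclic.exists_generator (α := G)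
      obtain ⟨i, rfl⟩ := hg a
      obtain ⟨j, rfl⟩ := hg b
      exact zpow_mul_comm g i j⟩⟩
  · exact ⟨⟨fun a b => IsPGroup.commutative_of_card_eq_prime_sq (p := p) h a b⟩⟩

/-- The dichotomy. -/
theorem height_one_or_abelian (hM : Cfsg.IsPModular p M)
    {b : Set (Cfsg.IrrCharacter (alternatingGroup (Fin n)))} (hb : Cfsg.IsPBlock M b)
    {D : Subgroup (alternatingGroup (Fin n))} (hD : Cfsg.IsDefectGroup p M b D) :
    ((∃ χ : Cfsg.IrrCharacter (alternatingGroup (Fin n)), χ ∈ b ∧
        Cfsg.blockHeight p b (χ : (alternatingGroup (Fin n)) → ℂ) = 1) ∧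
      ∃ φ : Cfsg.IrrCharacter D, Cfsg.charDegree (φ : D → ℂ) = p) ∨
    ((∀ χ : Cfsg.IrrCharacter (alternatingGroup (Fin n)), χ ∈ b →
        Cfsg.blockHeight p b (χ : (alternatingGroup (Fin n)) → ℂ) = 0) ∧ IsMulCommutative D) := by
  classical
  haveI := hM.2.1
  have hp : p.Prime := Fact.out
  by_cases hn2 : 2 ≤ n
  swap
  · right
    haveI : Subsingleton (Fin n) := by
      rw [← Fintype.card_le_one_iff_subsingleton, Fintype.card_fin]; omega
    haveI : Subsingleton (alternatingGroup (Fin n)) :=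
      ⟨fun a c => Subtype.ext (Subsingleton.elim _ _)⟩
    refine ⟨fun χ _ => ?_, ⟨⟨fun a c => Subsingleton.elim _ _⟩⟩⟩
    have h := Blocks.Contrib.vdeg_le p χ
    rw [Nat.card_unique, Nat.factorization_one, Finsupp.coe_zero, Pi.zero_apply] at h
    rw [Blocks.Contrib.blockHeight_eq]
    omega
  haveI : Nontrivial (Fin n) := Fin.nontrivial_iff_two_le.mpr hn2
  have hidx : (alternatingGroup (Fin n)).index = 2 := alternatingGroup.index_eq_two
  obtain ⟨t, ht⟩ : ∃ t, t ∉ (alternatingGroup (Fin n)) := by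
    refine ⟨Equiv.swap (⟨0, by omega⟩ : Fin n) ⟨1, by omega⟩, ?_⟩
    rw [Equiv.Perm.mem_alternatingGroup, Equiv.Perm.sign_swap (by simp [Fin.ext_iff])]
    decide
  -- the covering block
  obtain ⟨θ0, hθ0⟩ := Blocks.isPBlock_nonempty hb
  obtain ⟨χ0, hχ0⟩ := exists_char_over θ0
  set B := Cfsg.blockOf M (χ0 : Perm (Fin n) → ℂ) with hBdef
  have hB : Cfsg.IsPBlock M B := Blocks.isPBlock_blockOf χ0
  have hcov : ∃ χ ∈ B, ∃ θ ∈ b,
      Cfsg.classInner (fun a : (alternatingGroup (Fin n)) => (χ : Perm (Fin n) → ℂ) a) (θ : (alternatingGroup (Fin n)) → ℂ) ≠ 0 :=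
    ⟨χ0, Blocks.mem_blockOf_self χ0, θ0, hθ0, hχ0⟩
  obtain ⟨P, hP, hPD⟩ := Cfsg.Agent.S4438.result p M hM (alternatingGroup (Fin n)) b hb (D.map (alternatingGroup (Fin n)).subtype)
    (Subgroup.map_subtype_le D)
    (by
      rw [show (D.map (alternatingGroup (Fin n)).subtype).subgroupOf (alternatingGroup (Fin n)) = D from
        Subgroup.comap_map_eq_self_of_injective (alternatingGroup (Fin n)).subtype_injective D]
      exact hD) B hB hcov
  -- the weight
  obtain ⟨L, hL⟩ : ∃ L, L = n + p * p := ⟨_, rfl⟩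
  have hnL : n ≤ L := by omega
  obtain ⟨b0, hb0⟩ := exists_hasBead hnL χ0
  obtain ⟨w, hw⟩ : ∃ w, wt p (occ b0) = w := ⟨_, rfl⟩
  obtain ⟨v, hv⟩ : ∃ v, w.factorial.factorization p = v := ⟨_, rfl⟩
  have hbeads : ∀ χ ∈ B, ∃ c : Fin L → ℤ, HasBead n χ c ∧ wt p (occ c) = w := by
    intro χ hχ
    obtain ⟨c, hc⟩ := exists_hasBead hnL χ
    refine ⟨c, hc, ?_⟩
    have hR := rc_eq_of_block hnL hM hB (Blocks.mem_blockOf_self χ0) hχ hb0 hc
    rw [← hw]
    exact wt_eq_of_box (R := rc p b0) hp.pos (mem_box.mpr ⟨hc.1.2.1, hc.1.2.2, hR⟩)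
      (mem_box.mpr ⟨hb0.1.2.1, hb0.1.2.2, rfl⟩) hc.1.1 hb0.1.1
  -- the defect group
  obtain ⟨S, hS⟩ := exists_sylow p w
  have hScard : Nat.card (S : Subgroup (Perm (Fin w))) = p ^ v := by
    rw [S.card_eq_multiplicity, Nat.card_perm, Nat.card_fin, hv]
  obtain ⟨m, e, g, hge⟩ := exists_wr0_le_defect hM hnL hb0 hw (T := (S : Subgroup _)) S.2 hP
  have hcardU : Nat.card ((wr0 e (S : Subgroup _)).map (MulAut.conj g).toMonoidHom) =
      p ^ (w + v) := by
    rw [Blocks.card_map_conj, card_wr0, hScard, pow_add]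
  have hnfact : (Nat.card (Perm (Fin n))).factorization p = n.factorial.factorization p := by
    rw [Nat.card_perm, Nat.card_fin]
  have hBdef' : Cfsg.blockDefect p B = w + v := by
    refine le_antisymm ?_ ?_
    · obtain ⟨χ, hχ, hχmin⟩ := Blocks.Contrib.exists_height_zero (p := p) hB
      obtain ⟨c, hc, hcw⟩ := hbeads χ hχ
      have h1 := vdeg_add_hookVal (p := p) hc
      have h2 := hookVal_le (p := p) (occ c)
      rw [hcw, hv] at h2
      rw [Blocks.Contrib.blockDefect_eq, hnfact, ← hχmin]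
      omega
    · have h := Subgroup.card_le_of_le hge
      rw [hcardU, Blocks.card_isDefectGroup hM hB hP] at h
      exact (Nat.pow_le_pow_iff_right hp.one_lt).mp h
  have hPeq : (wr0 e (S : Subgroup _)).map (MulAut.conj g).toMonoidHom = P :=
    Subgroup.eq_of_le_of_card_ge hge
      (by rw [hcardU, Blocks.card_isDefectGroup hM hB hP, hBdef'])
  -- transport of `D`
  set U : Subgroup (Perm (Fin n)) := wr0 e (S : Subgroup _) ⊓ (alternatingGroup (Fin n)) with hU
  have hUD : U.map (MulAut.conj g).toMonoidHom = D.map (alternatingGroup (Fin n)).subtype := by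
    rw [← hPD, ← hPeq, hU, Subgroup.map_inf_eq _ _ _ (MulAut.conj g).injective]
    congr 1
    exact Subgroup.Normal.map_conj_eq (alternatingGroup (Fin n)) g
  let iso : D ≃* U :=
    (D.equivMapOfInjective (alternatingGroup (Fin n)).subtype (alternatingGroup (Fin n)).subtype_injective).trans
      ((MulEquiv.subgroupCongr hUD.symm).trans
        (U.equivMapOfInjective _ (MulAut.conj g).injective).symm)
  have hDcard : Nat.card D = Nat.card U := Nat.card_congr iso.toEquiv
  -- the index of the even part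
  have hUeven : (p ≠ 2 ∨ w = 0 → Nat.card U = p ^ (w + v)) ∧
      (p = 2 → 0 < w → 2 * Nat.card U = p ^ (w + v)) := by
    have hc0 : Nat.card (wr0 e (S : Subgroup _)) = p ^ (w + v) := by
      rw [card_wr0, hScard, pow_add]
    refine ⟨fun h => ?_, fun hp2 hw0 => ?_⟩
    · rw [hU, inf_eq_left.mpr, hc0]
      intro x hx
      rw [Perm.mem_alternatingGroup]
      rcases h with h | h
      · obtain ⟨k, hk⟩ := isPGroup_wr0 e (S : Subgroup _) S.2 ⟨x, hx⟩
        exact sign_eq_one_of_pow_odd (k := k) h (congrArg Subtype.val hk)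
      · subst h
        have hv0 : v = 0 := by simpa using hv.symm
        rw [hv0, pow_zero] at hc0
        rw [Subgroup.card_eq_one.mp hc0, Subgroup.mem_bot] at hx
        simp [hx]
    · have hnle : ¬ wr0 e (S : Subgroup _) ≤ (alternatingGroup (Fin n)) := fun hle => by
        have hmem : shiftG e (Pi.mulSingle (⟨0, hw0⟩ : Fin w) (Multiplicative.ofAdd 1)) ∈
            wr0 e (S : Subgroup _) :=
          ⟨SemidirectProduct.inl (Pi.mulSingle (⟨0, hw0⟩ : Fin w) (Multiplicative.ofAdd 1)),
            SemidirectProduct.lift_inl _ _ _ _⟩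
        have := hle hmem
        rw [Perm.mem_alternatingGroup, sign_shiftG,
          prod_eq_single (⟨0, hw0⟩ : Fin w) (fun j _ hj => by
            rw [Pi.mulSingle_eq_of_ne hj]; simp) (by simp),
          Pi.mulSingle_eq_same, toAdd_ofAdd, sign_addLeft_one hp2] at this
        exact absurd this (by decide)
      have h2 : (alternatingGroup (Fin n)).relIndex (wr0 e (S : Subgroup _)) = 2 := by
        have h := Subgroup.relIndex_le_of_le_right (H := (alternatingGroup (Fin n)))
          (le_top : wr0 e (S : Subgroup _) ≤ ⊤) (by rw [Subgroup.relIndex_top_right, hidx]; decide)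
        rw [Subgroup.relIndex_top_right, hidx] at h
        have h0 : (alternatingGroup (Fin n)).relIndex (wr0 e (S : Subgroup _)) ≠ 0 := Subgroup.index_ne_zero_of_finite
        have h1 : (alternatingGroup (Fin n)).relIndex (wr0 e (S : Subgroup _)) ≠ 1 :=
          fun h1 => hnle (Subgroup.relIndex_eq_one.mp h1)
        omega
      have h := Subgroup.relIndex_mul_relIndex (⊥ : Subgroup (Perm (Fin n))) U
        (wr0 e (S : Subgroup _)) bot_le inf_le_left
      rw [Subgroup.relIndex_bot_left, Subgroup.relIndex_bot_left, hU, Subgroup.inf_relIndex_left,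
        h2, hc0] at h
      rw [hU]
      omega
  -- the defect of `b`
  have hbdef : Nat.card D = p ^ Cfsg.blockDefect p b := Blocks.card_isDefectGroup hM hb hD
  have hAfact : n.factorial.factorization p =
      (Nat.card (alternatingGroup (Fin n))).factorization p + (2 : ℕ).factorization p := by
    have h := (alternatingGroup (Fin n)).index_mul_card
    rw [hidx, Nat.card_perm, Nat.card_fin] at h
    rw [← h, Nat.factorization_mul two_ne_zero Nat.card_pos.ne', Finsupp.add_apply, add_comm]
  have hlow : ¬ (p ≤ w ∧ (p = 2 → 3 ≤ w)) → IsMulCommutative D ∧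
      ∀ θ : Cfsg.IrrCharacter (alternatingGroup (Fin n)), θ ∈ b → Cfsg.blockHeight p b (θ : (alternatingGroup (Fin n)) → ℂ) = 0 := by
    intro hsmall
    by_cases h2 : p = 2
    · subst h2
      have hw2 : w ≤ 2 := by by_contra h; exact hsmall ⟨by omega, fun _ => by omega⟩
      have hdb : Cfsg.blockDefect 2 b ≤ 2 := by
        have hv' : (w = 0 → v = 0) ∧ (w = 1 → v = 0) ∧ (w = 2 → v = 1) := by
          refine ⟨?_, ?_, ?_⟩ <;> rintro rfl <;> rw [← hv] <;> simp [Nat.factorial,
            Nat.prime_two.factorization_self]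
        rcases Nat.eq_zero_or_pos w with h0 | h0
        · have h := hUeven.1 (Or.inr h0)
          rw [← hDcard, hbdef, h0, hv'.1 h0] at h
          have := Nat.pow_right_injective le_rfl h
          omega
        · have h := hUeven.2 rfl h0
          rw [← hDcard, hbdef, ← pow_succ'] at h
          have := Nat.pow_right_injective le_rfl h
          omega
      refine ⟨isMulCommutative_of_card hdb hbdef, fun θ hθ => ?_⟩
      by_contra hne
      have := Blocks.Contrib.height_add_two_le hM hb hθ (Nat.pos_of_ne_zero hne)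
      omega
    · have hwp : w < p := by
        by_contra h
        exact hsmall ⟨by omega, fun h' => absurd h' h2⟩
      have hv0 : v = 0 := by rw [← hv, fact_val_small hwp]
      have h2p : (2 : ℕ).factorization p = 0 :=
        Nat.factorization_eq_zero_of_not_dvd fun h =>
          h2 ((Nat.prime_dvd_prime_iff_eq hp Nat.prime_two).mp h)
      refine ⟨⟨⟨fun a c => ?_⟩⟩, fun θ hθ => ?_⟩
      · haveI : Subsingleton (S : Subgroup (Perm (Fin w))) :=
          (Nat.card_eq_one_iff_unique.mp (by rw [hScard, hv0, pow_zero])).1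
        apply iso.injective
        rw [map_mul, map_mul]
        apply Subtype.ext
        obtain ⟨⟨x, hx⟩, hx'⟩ : ∃ z, z = iso a := ⟨_, rfl⟩
        obtain ⟨⟨y, hy⟩, hy'⟩ : ∃ z, z = iso c := ⟨_, rfl⟩
        rw [← hx', ← hy']
        show x * y = y * x
        obtain ⟨ux, rfl⟩ := hx.1
        obtain ⟨uy, rfl⟩ := hy.1
        rw [← map_mul, ← map_mul]
        congr 1
        have e1 : ux.right = 1 := Subsingleton.elim _ _
        have e2 : uy.right = 1 := Subsingleton.elim _ _
        refine SemidirectProduct.ext ?_ (Subsingleton.elim _ _)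
        rw [SemidirectProduct.mul_left, SemidirectProduct.mul_left, e1, e2, map_one]
        simp [mul_comm]
      · obtain ⟨χ, hχ, hne⟩ := Cfsg.Agent.S4432.result p M hM (alternatingGroup (Fin n)) B hB b hb hcov θ hθ
        obtain ⟨c, hc, hcw⟩ := hbeads χ hχ
        have h1 := vdeg_add_hookVal (p := p) hc
        have h3 := hookVal_le (p := p) (occ c)
        have h4 := hookVal_decomp (p := p) (occ c)
        rw [hcw, hv, hv0] at h3
        rw [hcw] at h4
        have hθv : Blocks.Contrib.vdeg p θ = Blocks.Contrib.vdeg p χ := by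
          rcases degree_cases hidx ht χ θ hne with h | ⟨h, -⟩
          · rw [Blocks.Contrib.vdeg, Blocks.Contrib.vdeg, h]
          · rw [Blocks.Contrib.vdeg, Blocks.Contrib.vdeg, h]
            by_cases h0 : Cfsg.charDegree (θ : (alternatingGroup (Fin n)) → ℂ) = 0
            · rw [h0, mul_zero]
            · rw [Nat.factorization_mul two_ne_zero h0, Finsupp.add_apply, h2p, zero_add]
        have hd := hUeven.1 (Or.inl h2)
        rw [← hDcard, hbdef] at hd
        have hd' := Nat.pow_right_injective hp.two_le hd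
        have h5 := Blocks.Contrib.minVdeg_add_blockDefect (p := p) hb
        rw [Blocks.Contrib.blockHeight_eq]
        omega
  by_cases hbig : p ≤ w ∧ (p = 2 → 3 ≤ w)
  swap
  · exact Or.inr ⟨(hlow hbig).2, (hlow hbig).1⟩
  obtain ⟨hpw, hw3⟩ := hbig
  left
  refine ⟨?_, ?_⟩
  · obtain ⟨c, hc, hcR, hcval, hcns⟩ := exists_bead_height_one hb0.1 hw hpw (by omega)
    obtain ⟨χ, hχb⟩ := exists_char_of_bead hc
    have hχB : χ ∈ B := sameBlock_of_rc hM hnL hb0 hχb hcR
    obtain ⟨ψ, hψ⟩ := exists_constituent_restrict (alternatingGroup (Fin n)) χ.2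
    obtain ⟨x, hx⟩ := BrauerMap.Covering.exists_conj_mem_of_constituents (alternatingGroup (Fin n))
      (θ := θ0) (ψ := ψ) hχB hχ0 hψ
    rw [← Blocks.isPBlock_eq_blockOf hb hθ0] at hx
    refine ⟨_, hx, ?_⟩
    have hdeg : Cfsg.charDegree (BrauerMap.Normal.conjIrr (alternatingGroup (Fin n)) x ψ : (alternatingGroup (Fin n)) → ℂ) =
        Cfsg.charDegree (ψ : (alternatingGroup (Fin n)) → ℂ) := by
      show Cfsg.charDegree ((ψ : (alternatingGroup (Fin n)) → ℂ) ∘ _) = _
      simp [Cfsg.charDegree]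
    have hv2 := vdeg_add_hookVal (p := p) hχb
    have hψdeg : Cfsg.charDegree (χ : Perm (Fin n) → ℂ) = Cfsg.charDegree (ψ : (alternatingGroup (Fin n)) → ℂ) ∨
        (p ≠ 2 ∧ Cfsg.charDegree (χ : Perm (Fin n) → ℂ) = 2 * Cfsg.charDegree (ψ : (alternatingGroup (Fin n)) → ℂ)) := by
      rcases degree_cases hidx ht χ ψ hψ with h | ⟨h, hvan⟩
      · exact Or.inl h
      · refine Or.inr ⟨fun hp2 => hcns hp2 (hw3 hp2) ?_, h⟩
        refine symSet_of_selfAssociate hnL hχb fun σ => ?_
        by_cases hσ : σ ∈ (alternatingGroup (Fin n))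
        · rw [Perm.mem_alternatingGroup] at hσ
          simp [hσ]
        · rw [hvan σ hσ, mul_zero]
    have hθv : Blocks.Contrib.vdeg p (BrauerMap.Normal.conjIrr (alternatingGroup (Fin n)) x ψ) =
        Blocks.Contrib.vdeg p χ := by
      rw [Blocks.Contrib.vdeg, hdeg, Blocks.Contrib.vdeg]
      rcases hψdeg with h | ⟨h2, h⟩
      · rw [h]
      · rw [h]
        by_cases h0 : Cfsg.charDegree (ψ : (alternatingGroup (Fin n)) → ℂ) = 0
        · rw [h0, mul_zero]
        · rw [Nat.factorization_mul two_ne_zero h0, Finsupp.add_apply,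
            Nat.factorization_eq_zero_of_not_dvd fun h' =>
              h2 ((Nat.prime_dvd_prime_iff_eq hp Nat.prime_two).mp h'), zero_add]
    have hd : Cfsg.blockDefect p b + (2 : ℕ).factorization p = w + v := by
      by_cases h2 : p = 2
      · subst h2
        have h := hUeven.2 rfl (by omega)
        rw [← hDcard, hbdef, ← pow_succ'] at h
        rw [Nat.prime_two.factorization_self]
        exact Nat.pow_right_injective le_rfl h
      · have h := hUeven.1 (Or.inl h2)
        rw [← hDcard, hbdef] at h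
        rw [Nat.factorization_eq_zero_of_not_dvd fun h' =>
              h2 ((Nat.prime_dvd_prime_iff_eq hp Nat.prime_two).mp h')]
        exact Nat.pow_right_injective hp.two_le h
    have h5 := Blocks.Contrib.minVdeg_add_blockDefect (p := p) hb
    rw [Blocks.Contrib.blockHeight_eq, hθv]
    rw [hv] at hcval
    omega
  · obtain ⟨φ, hφ⟩ := exists_char_wrEven e hpw hw3 S hS
    refine ⟨⟨fun d => (φ : U → ℂ) (iso d),
      isIrrCharacter_comp iso.toMonoidHom iso.surjective φ.2⟩, ?_⟩
    refine Eq.trans ?_ hφ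
    simp [Cfsg.charDegree]

end Cfsg.Agent.Lib.SymHeight81
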