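import Cfsg.Agent.Lib.SymChar81.Model
import Cfsg.Agent.Lib.Cores.Basic
import Mathlib.GroupTheory.SemidirectProduct

/-!
# The centraliser of a product of `p`-cycles

The centraliser of `xG` is the product of translations, permutations of the cycles and permutations
of the remaining points; `wr0 T` is the translations extended by a group of permutations of the
cycles.
-/

set_option linter.unusedSectionVars false

namespace Cfsg.Agent.Lib.SymHeight81

open Equiv Finset Cfsg.Agent.Lib.SymChar81

variable {p w m n : ℕ}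

/-- Translations on the cycles. -/
abbrev Tr (p w : ℕ) : Type := Fin w → Multiplicative (ZMod p)

/-- Permuting the cycles. -/
def topHom (p w m : ℕ) : Perm (Fin w) →* Perm (Pts p w m) where
  toFun π := sumCongr (π.prodCongr (Equiv.refl _)) (Equiv.refl _)
  map_one' := by ext a; rcases a with ⟨i, j⟩ | k <;> simp
  map_mul' π π' := by ext a; rcases a with ⟨i, j⟩ | k <;> simp [Perm.mul_apply]

theorem topHom_inl (π : Perm (Fin w)) (i : Fin w) (j : ZMod p) :
    topHom p w m π (Sum.inl (i, j)) = Sum.inl (π i, j) := rfl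

theorem topHom_inr (π : Perm (Fin w)) (k : Fin m) : topHom p w m π (Sum.inr k) = Sum.inr k := rfl

/-- Permuting the rest. -/
def rightHom' (p w m : ℕ) : Perm (Fin m) →* Perm (Pts p w m) where
  toFun := modelPerm p w
  map_one' := by ext a; rcases a with a | k <;> simp [modelPerm]
  map_mul' τ τ' := by ext a; rcases a with a | k <;> simp [modelPerm, Perm.mul_apply]

variable (e : Pts p w m ≃ Fin n)

/-- The translations in the symmetric group. -/
def shiftG : Tr p w →* Perm (Fin n) := e.permCongrHom.toMonoidHom.comp (shiftHom p w m)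

/-- The permutations of the cycles in the symmetric group. -/
def topG : Perm (Fin w) →* Perm (Fin n) := e.permCongrHom.toMonoidHom.comp (topHom p w m)

/-- The permutations of the rest in the symmetric group. -/
def rightG : Perm (Fin m) →* Perm (Fin n) := e.permCongrHom.toMonoidHom.comp (rightHom' p w m)

/-- The product of the cycles. -/
def xG : Perm (Fin n) := shiftG e (unitShift p w)

/-- Its centraliser. -/
abbrev cen : Subgroup (Perm (Fin n)) := Subgroup.centralizer ({xG e} : Set (Perm (Fin n)))

theorem shiftG_injective : Function.Injective (shiftG e) :=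
  e.permCongrHom.injective.comp shiftHom_injective

theorem rightG_injective : Function.Injective (rightG e) := by
  refine e.permCongrHom.injective.comp fun τ τ' h => ?_
  ext k
  have := congrFun (congrArg DFunLike.coe h) (Sum.inr k)
  simp only [rightHom', MonoidHom.coe_mk, OneHom.coe_mk, modelPerm] at this
  exact congrArg Fin.val (Sum.inr.inj this)

theorem shiftG_mul_rightG (c : Tr p w) (τ : Perm (Fin m)) :
    Commute (shiftG e c) (rightG e τ) :=
  (shiftHom_comm c τ).map e.permCongrHom.toMonoidHom

theorem topG_mul_rightG (π : Perm (Fin w)) (τ : Perm (Fin m)) :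
    Commute (topG e π) (rightG e τ) := by
  refine Commute.map ?_ e.permCongrHom.toMonoidHom
  ext a; rcases a with ⟨i, j⟩ | k <;> simp [Perm.mul_apply, topHom, rightHom', modelPerm]

theorem topG_shiftG (π : Perm (Fin w)) (c : Tr p w) :
    topG e π * shiftG e c * (topG e π)⁻¹ = shiftG e (c ∘ π.symm) := by
  rw [mul_inv_eq_iff_eq_mul]
  simp only [topG, shiftG, MonoidHom.comp_apply]
  rw [← map_mul, ← map_mul]
  congr 1
  ext a
  rcases a with ⟨i, j⟩ | k
  · simp only [Perm.mul_apply, shiftHom_inl, topHom_inl, Function.comp_apply,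
      Equiv.symm_apply_apply]
  · rfl

theorem shiftG_mem (c : Tr p w) : shiftG e c ∈ cen e := by
  rw [Subgroup.mem_centralizer_singleton_iff, xG, ← map_mul, ← map_mul, mul_comm]

theorem topG_mem (π : Perm (Fin w)) : topG e π ∈ cen e := by
  have h := topG_shiftG e π (unitShift p w)
  rw [show unitShift p w ∘ π.symm = unitShift p w from rfl, mul_inv_eq_iff_eq_mul] at h
  exact Subgroup.mem_centralizer_singleton_iff.mpr h

theorem rightG_mem (τ : Perm (Fin m)) : rightG e τ ∈ cen e :=
  Subgroup.mem_centralizer_singleton_iff.mpr (shiftG_mul_rightG e _ τ).eq.symm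

theorem exists_decomp [Fact p.Prime] {h : Perm (Fin n)} (hh : h ∈ cen e) :
    ∃ c π τ, h = shiftG e c * topG e π * rightG e τ := by
  obtain ⟨g, rfl⟩ := e.permCongrHom.surjective h
  have hg : Commute g (shiftHom p w m (unitShift p w)) := by
    refine e.permCongrHom.injective ?_
    rw [map_mul, map_mul]
    exact Subgroup.mem_centralizer_singleton_iff.mp hh
  obtain ⟨π, d, hl, hr⟩ := commute_structure hg
  choose t ht using hr
  have htb : Function.Bijective t := Finite.injective_iff_bijective.mp fun a b h => by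
    have := g.injective ((ht a).trans ((congrArg Sum.inr h).trans (ht b).symm))
    exact Sum.inr.inj this
  refine ⟨fun k => Multiplicative.ofAdd (d (π.symm k)), π, Equiv.ofBijective t htb, ?_⟩
  show e.permCongrHom g = _
  simp only [shiftG, topG, rightG, MonoidHom.comp_apply]
  show e.permCongrHom g = e.permCongrHom (shiftHom p w m _) * e.permCongrHom (topHom p w m π) *
    e.permCongrHom (rightHom' p w m _)
  rw [← map_mul, ← map_mul]
  congr 1
  ext a
  rcases a with ⟨i, j⟩ | k
  · rw [hl, Perm.mul_apply, Perm.mul_apply]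
    change _ = shiftHom p w m _ (topHom p w m π (Sum.inl (i, j)))
    rw [topHom_inl, shiftHom_inl]
    simp [add_comm]
  · rw [ht, Perm.mul_apply, Perm.mul_apply]
    rfl

theorem otype_xG_rightG [NeZero p] (τ : Perm (Fin m)) :
    otype (xG e * rightG e τ) = Multiset.replicate w p + otype τ := by
  simp only [xG, shiftG, rightG, MonoidHom.comp_apply]
  rw [← map_mul]
  exact (otype_permCongr e _).trans (otype_model τ)

theorem xG_pow [Fact p.Prime] : ∃ k, orderOf (xG e) = p ^ k := by
  have h : xG e ^ p = 1 := by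
    rw [xG, ← map_pow, ← map_one (shiftG e)]
    congr 1
    funext i
    apply Multiplicative.toAdd.injective
    simp [toAdd_pow]
  have hd : orderOf (xG e) ∣ p ^ 1 := by rw [pow_one]; exact orderOf_dvd_of_pow_eq_one h
  obtain ⟨k, -, hk⟩ := (Nat.dvd_prime_pow (Fact.out : p.Prime)).mp hd
  exact ⟨k, hk⟩

/-- The permutations of the rest inside the centraliser. -/
def rightH : Perm (Fin m) →* cen e := (rightG e).codRestrict _ (rightG_mem e)

theorem rightH_coe (τ : Perm (Fin m)) : (rightH e τ : Perm (Fin n)) = rightG e τ := rfl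

theorem rightH_injective : Function.Injective (rightH e) := fun _ _ h =>
  rightG_injective e (congrArg Subtype.val h)

/-- Conjugation by the centraliser is inner on the rest. -/
theorem exists_conj_rightH [Fact p.Prime] (h : cen e) :
    ∃ τ : Perm (Fin m), ∀ s, h * rightH e s * h⁻¹ = rightH e (τ * s * τ⁻¹) := by
  obtain ⟨c, π, τ, hd⟩ := exists_decomp e h.2
  refine ⟨τ, fun s => Subtype.ext ?_⟩
  rw [Subgroup.coe_mul, Subgroup.coe_mul, Subgroup.coe_inv, rightH_coe, rightH_coe, hd, map_mul,
    map_mul, map_inv]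
  have hc : Commute (shiftG e c * topG e π) (rightG e τ * rightG e s * (rightG e τ)⁻¹) := by
    rw [← map_inv, ← map_mul, ← map_mul]
    exact (shiftG_mul_rightG e c _).mul_left (topG_mul_rightG e π _)
  calc shiftG e c * topG e π * rightG e τ * rightG e s *
        (shiftG e c * topG e π * rightG e τ)⁻¹
      = shiftG e c * topG e π * (rightG e τ * rightG e s * (rightG e τ)⁻¹) *
          (shiftG e c * topG e π)⁻¹ := by group
    _ = rightG e τ * rightG e s * (rightG e τ)⁻¹ := by rw [hc.eq, mul_inv_cancel_right]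

instance rightH_normal [Fact p.Prime] : (rightH e).range.Normal := ⟨by
  rintro _ ⟨s, rfl⟩ h
  obtain ⟨τ, hτ⟩ := exists_conj_rightH e h
  exact ⟨_, (hτ s).symm⟩⟩

theorem isConj_rightH [Fact p.Prime] {s s' : Perm (Fin m)} :
    IsConj (rightH e s) (rightH e s') ↔ IsConj s s' := by
  refine ⟨fun h => ?_, fun h => (rightH e).map_isConj h⟩
  obtain ⟨g, hg⟩ := isConj_iff.mp h
  obtain ⟨τ, hτ⟩ := exists_conj_rightH e g
  exact isConj_iff.mpr ⟨τ, rightH_injective e ((hτ s).symm.trans hg)⟩

/-- The translations inside the centraliser. -/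
def shiftH : Tr p w →* cen e := (shiftG e).codRestrict _ (shiftG_mem e)

theorem isPGroup_tr [Fact p.Prime] : IsPGroup p (Tr p w) :=
  IsPGroup.of_card (n := w) (by
    rw [Nat.card_fun, Nat.card_congr Multiplicative.toAdd, Nat.card_zmod, Nat.card_fin])

theorem shiftH_conj [Fact p.Prime] (h : cen e) (c : Tr p w) :
    ∃ π : Perm (Fin w), h * shiftH e c * h⁻¹ = shiftH e (c ∘ π.symm) ∧
      ∀ d : Tr p w, h * shiftH e d * h⁻¹ = shiftH e (d ∘ π.symm) ∧
        (π = 1 → ∃ d' τ, h = shiftH e d' * rightH e τ) := by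
  obtain ⟨c0, π, τ, hd⟩ := exists_decomp e h.2
  have key : ∀ d : Tr p w, h * shiftH e d * h⁻¹ = shiftH e (d ∘ π.symm) := fun d => Subtype.ext <| by
    show (h : Perm (Fin n)) * shiftG e d * (h : Perm (Fin n))⁻¹ = shiftG e (d ∘ π.symm)
    rw [hd]
    calc shiftG e c0 * topG e π * rightG e τ * shiftG e d *
          (shiftG e c0 * topG e π * rightG e τ)⁻¹
        = shiftG e c0 * (topG e π * (rightG e τ * shiftG e d * (rightG e τ)⁻¹) * (topG e π)⁻¹) *
            (shiftG e c0)⁻¹ := by group
      _ = shiftG e (d ∘ π.symm) := by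
        rw [(shiftG_mul_rightG e d τ).symm.eq, mul_inv_cancel_right, topG_shiftG, ← map_mul,
          ← map_inv, ← map_mul, mul_inv_cancel_comm]
  refine ⟨π, key c, fun d => ⟨key d, fun h1 => ⟨c0, τ, Subtype.ext ?_⟩⟩⟩
  rw [hd, h1, map_one, mul_one]
  rfl

/-- Modulo the rest the translations are self-centralising. -/
theorem centralizer_pCore_le [Fact p.Prime] :
    Subgroup.centralizer ((Cfsg.pCore p (cen e ⧸ (rightH e).range) :
        Subgroup (cen e ⧸ (rightH e).range)) : Set (cen e ⧸ (rightH e).range)) ≤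
      Cfsg.pCore p (cen e ⧸ (rightH e).range) := by
  classical
  set q := QuotientGroup.mk' (rightH e).range with hq
  set V : Subgroup (cen e ⧸ (rightH e).range) := (shiftH e).range.map q with hV
  haveI : (shiftH e).range.Normal := ⟨by
    rintro _ ⟨c, rfl⟩ h
    obtain ⟨π, hπ, -⟩ := shiftH_conj e h c
    exact ⟨_, hπ.symm⟩⟩
  haveI : V.Normal := Subgroup.Normal.map inferInstance q (QuotientGroup.mk'_surjective _)
  have hVp : IsPGroup p V :=
    ((isPGroup_tr (p := p) (w := w)).of_surjective (shiftH e).rangeRestrict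
      (shiftH e).rangeRestrict_surjective).map q
  have hVle : V ≤ Cfsg.pCore p (cen e ⧸ (rightH e).range) := Cores.le_pCore hVp
  intro z hz
  refine hVle ?_
  obtain ⟨h, rfl⟩ := QuotientGroup.mk'_surjective (rightH e).range z
  obtain ⟨π, -, hπ⟩ := shiftH_conj e h 1
  suffices hπ1 : π = 1 by
    obtain ⟨d', τ, rfl⟩ := (hπ 1).2 hπ1
    refine ⟨shiftH e d', ⟨d', rfl⟩, ?_⟩
    rw [map_mul, show q (rightH e τ) = 1 from (QuotientGroup.eq_one_iff _).mpr ⟨τ, rfl⟩, mul_one]
  ext i
  by_contra hne
  set c : Tr p w := Pi.mulSingle i (Multiplicative.ofAdd 1) with hc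
  have hcomm := Subgroup.mem_centralizer_iff.mp hz (q (shiftH e c))
    (hVle ⟨_, ⟨c, rfl⟩, rfl⟩)
  have h2 : q (shiftH e (c ∘ π.symm)) = q (shiftH e c) := by
    rw [← (hπ c).1, map_mul, map_mul, map_inv, ← hcomm, mul_inv_cancel_right]
  obtain ⟨s, hs⟩ := (QuotientGroup.eq.mp h2 : _ ∈ (rightH e).range)
  have h3 : rightG e s = shiftG e ((c ∘ π.symm)⁻¹ * c) := by
    rw [map_mul, map_inv]
    exact congrArg Subtype.val hs
  have h4 := congrFun (congrArg DFunLike.coe (e.permCongrHom.injective h3))
    (Sum.inl (π i, (0 : ZMod p)))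
  rw [shiftHom_inl] at h4
  simp only [rightHom', MonoidHom.coe_mk, OneHom.coe_mk, modelPerm, Equiv.sumCongr_apply,
    Sum.map_inl, Equiv.refl_apply, Sum.inl.injEq, Prod.mk.injEq, true_and, add_zero,
    Pi.mul_apply, Pi.inv_apply, Function.comp_apply, Equiv.symm_apply_apply, hc] at h4
  rw [Pi.mulSingle_eq_same, Pi.mulSingle_eq_of_ne (show π i ≠ i from fun e' => hne (congrArg Fin.val e'))] at h4
  simp at h4

/-- The action on the translations. -/
def trAut (p w : ℕ) : Perm (Fin w) →* MulAut (Tr p w) where
  toFun π :=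
    { toFun := fun c => c ∘ π.symm
      invFun := fun c => c ∘ π
      left_inv := fun c => by funext i; simp
      right_inv := fun c => by funext i; simp
      map_mul' := fun _ _ => rfl }
  map_one' := rfl
  map_mul' _ _ := rfl

variable (T : Subgroup (Perm (Fin w)))

/-- Translations extended by `T`. -/
abbrev Wr (p : ℕ) {w : ℕ} (T : Subgroup (Perm (Fin w))) : Type :=
  Tr p w ⋊[(trAut p w).comp T.subtype] T

/-- The embedding. -/
def wrHom : Wr p T →* Perm (Fin n) :=
  SemidirectProduct.lift (shiftG e) ((topG e).comp T.subtype) fun π => by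
    ext1 c
    exact (topG_shiftG e (π : Perm (Fin w)) c).symm

theorem wrHom_apply (u : Wr p T) : wrHom e T u = shiftG e u.left * topG e u.right := rfl

theorem wrHom_injective [NeZero p] : Function.Injective (wrHom e T) := by
  rw [injective_iff_map_eq_one]
  intro u hu
  rw [wrHom_apply] at hu
  have h : shiftHom p w m u.left * topHom p w m u.right = 1 := by
    refine e.permCongrHom.injective ?_
    rw [map_mul, map_one]
    exact hu
  have hl : ∀ i, Sum.inl (α := Fin w × ZMod p) (β := Fin m)
      ((u.right : Perm (Fin w)) i, (u.left ((u.right : Perm (Fin w)) i)).toAdd + 0) =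
      Sum.inl (i, 0) := fun i => congrFun (congrArg DFunLike.coe h) (Sum.inl (i, (0 : ZMod p)))
  have h1 : u.right = 1 := Subtype.ext (Equiv.ext fun i => (Prod.ext_iff.mp (Sum.inl.inj (hl i))).1)
  refine SemidirectProduct.ext ?_ h1
  funext i
  have := (Prod.ext_iff.mp (Sum.inl.inj (hl i))).2
  rw [h1, OneMemClass.coe_one, Perm.one_apply, add_zero] at this
  exact Multiplicative.toAdd.injective this

theorem wrHom_mem (u : Wr p T) : wrHom e T u ∈ cen e :=
  mul_mem (shiftG_mem e _) (topG_mem e _)

theorem wrHom_mul_rightG (u : Wr p T) (s : Perm (Fin m)) :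
    Commute (wrHom e T u) (rightG e s) :=
  (shiftG_mul_rightG e _ s).mul_left (topG_mul_rightG e _ s)

theorem card_wr [NeZero p] : Nat.card (Wr p T) = p ^ w * Nat.card T := by
  rw [Nat.card_congr SemidirectProduct.equivProd, Nat.card_prod, Nat.card_fun,
    Nat.card_congr Multiplicative.toAdd, Nat.card_zmod, Nat.card_fin]

theorem isPGroup_wr [Fact p.Prime] (hT : IsPGroup p T) : IsPGroup p (Wr p T) := by
  haveI : NeZero p := ⟨(Fact.out : p.Prime).ne_zero⟩
  obtain ⟨k, hk⟩ := IsPGroup.iff_card.mp hT
  exact IsPGroup.of_card (n := w + k) (by rw [card_wr, hk, pow_add])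

end Cfsg.Agent.Lib.SymHeight81
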